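import Groth.Agent.Books.AlgPts
import Mathlib.AlgebraicGeometry.Morphisms.UniversallyInjective
import Mathlib.AlgebraicGeometry.Morphisms.Separated
import Mathlib.AlgebraicGeometry.FunctionField
import Mathlib.FieldTheory.PurelyInseparable.Basic

/-!
# Injective morphisms over an algebraically closed field are universally injective (helper496)
-/

set_option autoImplicit false
universe u
open CategoryTheory CategoryTheory.Limits MonoidalCategory CartesianMonoidalCategory AlgebraicGeometry

namespace K496.UnivInj

open Groth.Agent.Books.AlgPts

/-- A morphism between schemes locally of finite type over an algebraically closed field which is separated and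
injective on points is universally injective. -/
theorem universallyInjective_of_injective {k : Type u} [Field k] [IsAlgClosed k]
    {X Y : Over (Spec (CommRingCat.of k))} [LocallyOfFiniteType X.hom] [LocallyOfFiniteType Y.hom]
    (π : Y ⟶ X) [IsSeparated π.left] (hπ : Function.Injective π.left) : UniversallyInjective π.left := by
  rw [UniversallyInjective.iff_diagonal]
  let P : Over (Spec (CommRingCat.of k)) := Over.mk (pullback.fst π.left π.left ≫ Y.hom)
  have hlt : LocallyOfFiniteType π.left := by
    have : LocallyOfFiniteType (π.left ≫ X.hom) := by rw [Over.w]; infer_instance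
    exact locallyOfFiniteType_of_comp π.left X.hom
  have hP : LocallyOfFiniteType P.hom := by
    change LocallyOfFiniteType (pullback.fst π.left π.left ≫ Y.hom)
    infer_instance
  let p₁ : P ⟶ Y := Over.homMk (pullback.fst π.left π.left) rfl
  let p₂ : P ⟶ Y := Over.homMk (pullback.snd π.left π.left) (by
    change pullback.snd π.left π.left ≫ Y.hom = pullback.fst π.left π.left ≫ Y.hom
    rw [← Over.w π, ← pullback.condition_assoc])
  let δ : Y ⟶ P := Over.homMk (pullback.diagonal π.left) (by
    change pullback.diagonal π.left ≫ pullback.fst π.left π.left ≫ Y.hom = Y.hom
    simp)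
  have hcl : IsClosed (Set.range (pullback.diagonal π.left)) :=
    (pullback.diagonal π.left).isClosedEmbedding.isClosed_range
  have key : (Set.univ : Set P.left) ⊆ Set.range (pullback.diagonal π.left) := by
    refine subset_of_forall_pt (X := P) isOpen_univ.isLocallyClosed hcl fun x _ => ?_
    have h : x ≫ p₁ = x ≫ p₂ := by
      apply pt_injective
      apply hπ
      rw [← pt_comp, ← pt_comp]
      congr 1
      rw [Category.assoc, Category.assoc]
      congr 1
      ext1
      exact pullback.condition
    have h2 : x = (x ≫ p₁) ≫ δ := by
      ext1
      apply pullback.hom_ext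
      · simp [p₁, δ]
      · have := congr(($h).left)
        simp only [Over.comp_left] at this
        simp [p₁, δ]
        exact this.symm
    refine ⟨pt (x ≫ p₁), ?_⟩
    have := pt_comp (x ≫ p₁) δ
    rw [← h2] at this
    exact this.symm
  exact ⟨fun z => key (Set.mem_univ z)⟩

end K496.UnivInj
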