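import Groth.Agent.S11188
import Groth.Agent.AGF.K496.UnivInj
import Groth.Agent.Agf.H585.QuotPts
import Groth.Agent.Agf.H586.QuotSep
import Mathlib.AlgebraicGeometry.ZariskisMainTheorem
import Mathlib.AlgebraicGeometry.QuasiAffine

/-!
# Observable subgroups and quasi-affine quotients

* `exists_descend`: invariant functions descend to the quotient;
* `isQuasiAffine_of_isObservableIn`, `isObservableIn_of_isQuasiAffine`;
* `isAffine_of_surjective`: the quotient by an observable subgroup is affine when every prime ideal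
  of `k[G]^H` is the contraction of a prime ideal of `k[G]`.
-/

set_option autoImplicit false
set_option linter.unusedSectionVars false

universe u

open CategoryTheory MonoidalCategory CartesianMonoidalCategory MonObj GrpObj AlgebraicGeometry
open scoped TensorProduct

namespace K496.QAff

open Groth.Agent.Books.AlgPts Groth.Agent.Books.AffBridge Groth.Agent.Agf.H585.QuotPts
open Groth.Agent.Agf.H586.QuotSep
open Limits (pullback)

section UnivInj

/-- A separated morphism between schemes locally of finite type over an algebraically closed field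
which is injective on rational points is universally injective. -/
theorem universallyInjective_of_pt {k : Type u} [Field k] [IsAlgClosed k]
    {X Y : Over (Spec (CommRingCat.of k))} [LocallyOfFiniteType X.hom] [LocallyOfFiniteType Y.hom]
    (π : Y ⟶ X) [IsSeparated π.left]
    (hπ : ∀ x y : 𝟙_ (Over (Spec (CommRingCat.of k))) ⟶ Y, x ≫ π = y ≫ π → x = y) :
    UniversallyInjective π.left := by
  rw [UniversallyInjective.iff_diagonal]
  let P : Over (Spec (CommRingCat.of k)) := Over.mk (pullback.fst π.left π.left ≫ Y.hom)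
  have hlt : LocallyOfFiniteType π.left := by
    have : LocallyOfFiniteType (π.left ≫ X.hom) := by rw [Over.w]; infer_instance
    exact locallyOfFiniteType_of_comp π.left X.hom
  have hP : LocallyOfFiniteType P.hom := by
    change LocallyOfFiniteType (pullback.fst π.left π.left ≫ Y.hom)
    infer_instance
  let p₁ : P ⟶ Y := Over.homMk (pullback.fst π.left π.left) rfl
  let p₂ : P ⟶ Y := Over.homMk (pullback.snd π.left π.left) (by
    change pullback.snd π.left π.left ≫ Y.hom = pullback.fst π.left π.left ≫ Y.hom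
    rw [← Over.w π, ← pullback.condition_assoc])
  let δ : Y ⟶ P := Over.homMk (pullback.diagonal π.left) (by
    change pullback.diagonal π.left ≫ pullback.fst π.left π.left ≫ Y.hom = Y.hom
    simp)
  have hcl : IsClosed (Set.range (pullback.diagonal π.left)) :=
    (pullback.diagonal π.left).isClosedEmbedding.isClosed_range
  have key : (Set.univ : Set P.left) ⊆ Set.range (pullback.diagonal π.left) := by
    refine subset_of_forall_pt (X := P) isOpen_univ.isLocallyClosed hcl fun x _ => ?_
    have h : x ≫ p₁ = x ≫ p₂ := by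
      apply hπ
      rw [Category.assoc, Category.assoc]
      congr 1
      ext1
      exact pullback.condition
    have h2 : x = (x ≫ p₁) ≫ δ := by
      ext1
      apply pullback.hom_ext
      · simp [p₁, δ]
      · have := congr(($h).left)
        simp only [Over.comp_left] at this
        simp [p₁, δ]
        exact this.symm
    refine ⟨pt (x ≫ p₁), ?_⟩
    have := pt_comp (x ≫ p₁) δ
    rw [← h2] at this
    exact this.symm
  exact ⟨fun z => key (Set.mem_univ z)⟩

/-- **Zariski's main theorem**: a scheme with a morphism injective on rational points to an affine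
scheme is quasi-affine. -/
theorem isQuasiAffine_of_injective {k : Type u} [Field k] [IsAlgClosed k]
    {X Y : Over (Spec (CommRingCat.of k))} [LocallyOfFiniteType X.hom] [LocallyOfFiniteType Y.hom]
    [IsAffine X.left] [CompactSpace Y.left] [IsSeparated Y.hom] (π : Y ⟶ X)
    (hπ : ∀ x y : 𝟙_ (Over (Spec (CommRingCat.of k))) ⟶ Y, x ≫ π = y ≫ π → x = y) :
    Y.left.IsQuasiAffine := by
  have h1 : IsSeparated (π.left ≫ X.hom) := by rw [Over.w]; infer_instance
  have h2 : IsSeparated π.left := IsSeparated.of_comp π.left X.hom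
  have h3 : LocallyOfFiniteType (π.left ≫ X.hom) := by rw [Over.w]; infer_instance
  have h4 : LocallyOfFiniteType π.left := locallyOfFiniteType_of_comp π.left X.hom
  have h5 : UniversallyInjective π.left := universallyInjective_of_pt π hπ
  have h6 : LocallyQuasiFinite π.left := inferInstance
  have h7 : QuasiCompact π.left := inferInstance
  have h8 : IsAffine π.left.normalization := isAffine_of_isAffineHom π.left.fromNormalization
  exact Scheme.IsQuasiAffine.of_isImmersion π.left.toNormalization

end UnivInj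

section Desc

variable {S : Scheme.{u}} {G H X : Over S} [GrpObj G] {i : H ⟶ G} {q : G ⟶ X}

/-- **Descent of invariant functions to the quotient.** -/
theorem exists_descend (hpb : IsPullback (fst G H) ((G ◁ i) ≫ μ[G]) q q) [EffectiveEpi q.left]
    (f : Γ(G.left, ⊤)) (hf : AGF.IsRTransInv i f) : ∃ s : Γ(X.left, ⊤), q.left.appTop s = f := by
  refine exists_appTop_eq q.left f ?_
  intro R g₁ g₂ h
  have hw : g₂ ≫ G.hom = g₁ ≫ G.hom := by
    rw [← Over.w q, ← Category.assoc, ← Category.assoc, h]
  let t : Over.mk (g₁ ≫ G.hom) ⟶ G ⊗ H := hpb.lift (Over.homMk g₁ rfl) (Over.homMk g₂ hw)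
    (by ext1; exact h)
  have h1 : t.left ≫ (fst G H).left = g₁ := by
    rw [← Over.comp_left]
    exact congrArg (fun φ => φ.left) (hpb.lift_fst _ _ _)
  have h2 : t.left ≫ ((G ◁ i) ≫ μ[G]).left = g₂ := by
    rw [← Over.comp_left]
    exact congrArg (fun φ => φ.left) (hpb.lift_snd _ _ _)
  rw [← h1, ← h2, Scheme.Hom.comp_appTop, Scheme.Hom.comp_appTop, CommRingCat.comp_apply,
    CommRingCat.comp_apply]
  exact congrArg _ hf.symm

/-- Functions coming from the quotient are invariant. -/
theorem isRTransInv_appTop (hw : fst G H ≫ q = ((G ◁ i) ≫ μ[G]) ≫ q)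
    (s : Γ(X.left, ⊤)) : AGF.IsRTransInv i (q.left.appTop s) := by
  have h1 := congrArg (fun φ => φ.left.appTop s) hw
  simp only [Over.comp_left, Scheme.Hom.comp_appTop, CommRingCat.comp_apply] at h1
  unfold AGF.IsRTransInv
  rw [Over.comp_left, Scheme.Hom.comp_appTop, CommRingCat.comp_apply]
  exact h1.symm

end Desc

/-- Injectivity on global functions for an epimorphism. -/
theorem appTop_injective {X Y : Scheme.{u}} (f : X ⟶ Y) [Epi f] :
    Function.Injective f.appTop.hom := by
  have hm : Mono f.appTop := by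
    constructor
    intro T α β h
    have h1 : f ≫ Y.toSpecΓ ≫ Spec.map α = f ≫ Y.toSpecΓ ≫ Spec.map β := by
      rw [Scheme.toSpecΓ_naturality_assoc, Scheme.toSpecΓ_naturality_assoc, ← Spec.map_comp,
        ← Spec.map_comp, h]
    rw [cancel_epi] at h1
    have h2 := congrArg (fun q => q.appTop) h1
    simp only [Scheme.Hom.comp_appTop, Scheme.toSpecΓ_appTop] at h2
    rw [cancel_mono] at h2
    have h3 := Scheme.ΓSpecIso_naturality α
    have h4 := Scheme.ΓSpecIso_naturality β
    rw [h2, h4] at h3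
    exact ((cancel_epi _).mp h3).symm
  exact (ConcreteCategory.mono_iff_injective_of_preservesPullback _).mp hm

section Aff

variable {k : Type u} [Field k]

/-- Finitely many functions come from a morphism to an affine scheme of finite type. -/
theorem exists_map (X : Over (Spec (CommRingCat.of k))) (s : Finset Γ(X.left, ⊤)) :
    ∃ (Y : Over (Spec (CommRingCat.of k))) (π : X ⟶ Y), IsAffine Y.left ∧
      LocallyOfFiniteType Y.hom ∧ ∀ f ∈ s, ∃ f' : Γ(Y.left, ⊤), π.left.appTop f' = f := by
  let γ : CommRingCat.of k ⟶ Γ(X.left, ⊤) :=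
    (Scheme.ΓSpecIso (CommRingCat.of k)).inv ≫ X.hom.appTop
  let _ : Algebra k Γ(X.left, ⊤) := γ.hom.toAlgebra
  let R := Algebra.adjoin k (s : Set Γ(X.left, ⊤))
  let j : CommRingCat.of R ⟶ Γ(X.left, ⊤) := CommRingCat.ofHom (algebraMap R Γ(X.left, ⊤))
  have hft : Algebra.FiniteType k R := (Subalgebra.fg_iff_finiteType _).1 ⟨s, rfl⟩
  have hγ : CommRingCat.ofHom (algebraMap k R) ≫ j = γ := rfl
  have hw : (X.left.toSpecΓ ≫ Spec.map j) ≫ (SpecOver k R).hom = X.hom := by
    change (X.left.toSpecΓ ≫ Spec.map j) ≫ Spec.map (CommRingCat.ofHom (algebraMap k R)) = X.hom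
    rw [Category.assoc, ← Spec.map_comp, hγ, Spec.map_comp]
    have h1 := Scheme.toSpecΓ_naturality X.hom
    rw [← Category.assoc, ← h1, Category.assoc, ← SpecMap_ΓSpecIso_hom, ← Spec.map_comp,
      Iso.inv_hom_id, Spec.map_id, Category.comp_id]
  refine ⟨SpecOver k R, Over.homMk (X.left.toSpecΓ ≫ Spec.map j) hw,
    inferInstanceAs (IsAffine (Spec (CommRingCat.of R))),
    (Groth.Agent.Books.AffBridge2.locallyOfFiniteType_specOver_iff k R).2 hft, fun f hf => ?_⟩
  refine ⟨(Scheme.ΓSpecIso (CommRingCat.of R)).inv ⟨f, Algebra.subset_adjoin hf⟩, ?_⟩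
  change (X.left.toSpecΓ ≫ Spec.map j).appTop _ = f
  rw [Scheme.Hom.comp_appTop, CommRingCat.comp_apply]
  have h1 := Scheme.ΓSpecIso_inv_naturality j
  have h2 := congrArg (fun F => F.hom (⟨f, Algebra.subset_adjoin hf⟩ : R)) h1
  simp only [CommRingCat.hom_comp, RingHom.comp_apply] at h2
  erw [← h2]
  rw [Scheme.toSpecΓ_appTop]
  simp [j]

end Aff

section pts

variable {k : Type u} [Field k]

lemma unit_ext {Y : Over (Spec (CommRingCat.of k))}
    {x y : 𝟙_ (Over (Spec (CommRingCat.of k))) ⟶ Y}
    (h : toUnit (VecGrp.pt k k) ≫ x = toUnit (VecGrp.pt k k) ≫ y) : x = y := by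
  have hw : 𝟙 _ ≫ (VecGrp.pt k k).hom = (𝟙_ (Over (Spec (CommRingCat.of k)))).hom := by
    change 𝟙 _ ≫ Spec.map (CommRingCat.ofHom (algebraMap k k)) = 𝟙 _
    have h1 : CommRingCat.ofHom (algebraMap k k) = 𝟙 _ := rfl
    rw [h1, Spec.map_id, Category.comp_id]
  let c : 𝟙_ (Over (Spec (CommRingCat.of k))) ⟶ VecGrp.pt k k := Over.homMk (𝟙 _) hw
  have h1 := congrArg (fun f => c ≫ f) h
  rw [← Category.assoc, ← Category.assoc, toUnit_unique (c ≫ toUnit _) (𝟙 _), Category.id_comp,
    Category.id_comp] at h1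
  exact h1

end pts

section Main

variable {k : Type u} [Field k] [IsAlgClosed k]
  {G : Over (Spec (CommRingCat.of k))} [GrpObj G] [IsAffine G.left] [Smooth G.hom]
  {H : Over (Spec (CommRingCat.of k))} [GrpObj H] [Smooth H.hom] {i : H ⟶ G} [IsMonHom i]
  [IsClosedImmersion i.left]
  {X : Over (Spec (CommRingCat.of k))} {a : AlgGrp.Action G X}
  {o : 𝟙_ (Over (Spec (CommRingCat.of k))) ⟶ X}

/-- **The quotient by an observable subgroup is quasi-affine.** -/
theorem isQuasiAffine_of_isObservableIn (hX : AGF.IsQuotient i X a o)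
    (h : AGF.IsObservableIn k i) : X.left.IsQuasiAffine := by
  classical
  obtain ⟨s, hs, hsep⟩ := ((Groth.Agent.S11188.result k G H i).out 0 2).1 h
  have h1 := hX.1
  have h2 := hX.2.1
  have h3 := hX.2.2.1
  have hpb := hX.2.2.2
  have hepi := effectiveEpi_left h2 h3
  have hsepX := isSeparated_of_isQuotient i a o hX
  have hcomp : CompactSpace X.left := by
    have h4 : Continuous (a.orbitMap o).left := (a.orbitMap o).left.continuous
    exact h3.surj.compactSpace h4
  choose! d hd using fun f (hf : f ∈ s) => exists_descend hpb f (hs f hf)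
  obtain ⟨Y, π, hY1, hY2, hY3⟩ := exists_map X (s.image d)
  refine isQuasiAffine_of_injective π fun x y hxy => ?_
  obtain ⟨g, rfl⟩ := exists_lift_pt h3 x
  obtain ⟨g', rfl⟩ := exists_lift_pt h3 y
  obtain ⟨x, hx⟩ := hsep (toUnit (VecGrp.pt k k) ≫ g) (toUnit (VecGrp.pt k k) ≫ g') (by
    intro f hf
    obtain ⟨f', hf'⟩ := hY3 (d f) (Finset.mem_image_of_mem d hf)
    have h4 : ∀ g : 𝟙_ (Over (Spec (CommRingCat.of k))) ⟶ G,
        (toUnit (VecGrp.pt k k) ≫ g).left.appTop f =
        (toUnit (VecGrp.pt k k) ≫ ((g ≫ a.orbitMap o) ≫ π)).left.appTop f' := by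
      intro g
      conv_lhs => rw [← hd f hf, ← hf']
      simp only [Over.comp_left, Scheme.Hom.comp_appTop, CommRingCat.comp_apply]
    rw [h4, h4, hxy])
  apply unit_ext
  rw [← Category.assoc, ← Category.assoc, hx, mul_comp_eq hpb]

/-- **The subgroup is observable when the quotient is quasi-affine.** -/
theorem isObservableIn_of_isQuasiAffine (hX : AGF.IsQuotient i X a o)
    (h : X.left.IsQuasiAffine) : AGF.IsObservableIn k i := by
  intro g hg
  have hpb := hX.2.2.2
  have h1 : (1 : VecGrp.pt k k ⟶ G) ≫ a.orbitMap o = g ≫ a.orbitMap o := by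
    have h2 : (g ≫ a.orbitMap o).left ≫ X.left.toSpecΓ =
        ((1 : VecGrp.pt k k ⟶ G) ≫ a.orbitMap o).left ≫ X.left.toSpecΓ := by
      have h3 : (g ≫ a.orbitMap o).left.appTop =
          ((1 : VecGrp.pt k k ⟶ G) ≫ a.orbitMap o).left.appTop := by
        ext s
        have h4 := hg _ (isRTransInv_appTop hpb.w s)
        rw [K495.Bridge.isRTransInv_iff] at h4
        have h5 := h4 1 (𝟙 _)
        rw [Category.id_comp, _root_.one_mul, K495.Bridge.ev_eq_iff] at h5
        simp only [Over.comp_left, Scheme.Hom.comp_appTop, CommRingCat.comp_apply]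
        exact h5
      rw [Scheme.toSpecΓ_naturality, Scheme.toSpecΓ_naturality, h3]
    ext1
    rw [← cancel_mono X.left.toSpecΓ, h2]
  obtain ⟨x, hx⟩ := exists_of_comp_eq hpb h1
  exact ⟨x, by rw [hx, _root_.one_mul]⟩

/-- The functions on the quotient are the invariant functions. -/
theorem exists_ringEquiv {A : Type u} [CommRing A] [HopfAlgebra k A]
    (e : G ≅ SpecOver k A) [IsMonHom e.hom] (hX : AGF.IsQuotient i X a o) :
    ∃ ψ : Γ(X.left, ⊤) ≃+* K495.ObsPt.rInv (K495.Bridge.psub e i : Set (Groth.Agent.Sga3B.RG.Pt k A)),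
      ∀ s, (ψ s : A) = K495.Bridge.fn e ((a.orbitMap o).left.appTop s) := by
  have h1 := hX.1
  have h2 := hX.2.1
  have h3 := hX.2.2.1
  have hpb := hX.2.2.2
  have hepi := effectiveEpi_left h2 h3
  have haff : IsAffine H.left := isAffine_of_isAffineHom i.left
  let φ : Γ(X.left, ⊤) →+* A := (K495.Bridge.fn e : Γ(G.left, ⊤) →+* A).comp
    (a.orbitMap o).left.appTop.hom
  have hφ : ∀ s, φ s ∈ (K495.ObsPt.rInv
      (K495.Bridge.psub e i : Set (Groth.Agent.Sga3B.RG.Pt k A))).toSubring := by
    intro s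
    exact (K495.Bridge.isRTransInv_iff_mem e i _).1 (isRTransInv_appTop hpb.w s)
  refine ⟨RingEquiv.ofBijective (φ.codRestrict _ hφ) ⟨?_, ?_⟩, fun s => rfl⟩
  · intro s t hst
    have h4 : φ s = φ t := congrArg Subtype.val hst
    have h5 : (a.orbitMap o).left.appTop s = (a.orbitMap o).left.appTop t :=
      (K495.Bridge.fn e).injective h4
    have hepi' : Epi (a.orbitMap o).left := inferInstance
    exact appTop_injective (a.orbitMap o).left h5
  · rintro ⟨b, hb⟩
    obtain ⟨s, hs⟩ := exists_descend hpb ((K495.Bridge.fn e).symm b)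
      ((K495.Bridge.isRTransInv_iff_mem e i _).2 (by rw [RingEquiv.apply_symm_apply]; exact hb))
    refine ⟨s, Subtype.ext ?_⟩
    change K495.Bridge.fn e ((a.orbitMap o).left.appTop s) = b
    rw [hs, RingEquiv.apply_symm_apply]

/-- A quasi-affine scheme whose canonical map to the spectrum of its functions is surjective is
affine. -/
theorem isAffine_of_surjective_toSpecΓ (Y : Scheme.{u}) [Y.IsQuasiAffine]
    (h : Function.Surjective Y.toSpecΓ) : IsAffine Y := by
  have h1 : Surjective Y.toSpecΓ := ⟨h⟩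
  have h2 : IsIso Y.toSpecΓ := IsOpenImmersion.isIso Y.toSpecΓ
  exact ⟨h2⟩

/-- **The quotient by an observable subgroup is affine when every prime ideal of `k[G]^H` is the
contraction of a prime ideal of `k[G]`.** -/
theorem isAffine_of_prime {A : Type u} [CommRing A] [HopfAlgebra k A]
    (e : G ≅ SpecOver k A) [IsMonHom e.hom] (hX : AGF.IsQuotient i X a o)
    (hobs : AGF.IsObservableIn k i)
    (h : ∀ 𝔮 : Ideal (K495.ObsPt.rInv
        (K495.Bridge.psub e i : Set (Groth.Agent.Sga3B.RG.Pt k A))), 𝔮.IsPrime →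
      ∃ 𝔭 : Ideal A, 𝔭.IsPrime ∧ 𝔭.comap (K495.ObsPt.rInv
        (K495.Bridge.psub e i : Set (Groth.Agent.Sga3B.RG.Pt k A))).val = 𝔮) :
    IsAffine X.left := by
  have hqa := isQuasiAffine_of_isObservableIn hX hobs
  apply isAffine_of_surjective_toSpecΓ
  obtain ⟨ψ, hψ⟩ := exists_ringEquiv e hX
  have h1 : Function.Surjective ((a.orbitMap o).left ≫ X.left.toSpecΓ) := by
    rw [Scheme.toSpecΓ_naturality]
    have h2 : Function.Surjective (Spec.map (a.orbitMap o).left.appTop) := by
      intro (𝔮 : PrimeSpectrum Γ(X.left, ⊤))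
      obtain ⟨𝔭, h𝔭, h𝔭𝔮⟩ := h (𝔮.asIdeal.comap (ψ.symm : _ →+* Γ(X.left, ⊤))) inferInstance
      let P : PrimeSpectrum Γ(G.left, ⊤) :=
        ⟨𝔭.comap (K495.Bridge.fn e : Γ(G.left, ⊤) →+* A), inferInstance⟩
      refine ⟨P, ?_⟩
      apply PrimeSpectrum.ext
      ext s
      change K495.Bridge.fn e ((a.orbitMap o).left.appTop s) ∈ 𝔭 ↔ s ∈ 𝔮.asIdeal
      rw [← hψ]
      have h3 : (ψ s ∈ 𝔭.comap (K495.ObsPt.rInv
        (K495.Bridge.psub e i : Set (Groth.Agent.Sga3B.RG.Pt k A))).val) ↔ s ∈ 𝔮.asIdeal := by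
        rw [h𝔭𝔮, Ideal.mem_comap]
        change ψ.symm (ψ s) ∈ 𝔮.asIdeal ↔ _
        rw [RingEquiv.symm_apply_apply]
      exact h3
    have h3 : Function.Surjective G.left.toSpecΓ := (inferInstance : Surjective G.left.toSpecΓ).surj
    rw [Scheme.Hom.comp_base]
    exact h2.comp h3
  rw [Scheme.Hom.comp_base] at h1
  exact Function.Surjective.of_comp h1

end Main

end K496.QAff
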