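import Groth.Agent.AGF.K495.ObsPt
import Groth.Agent.Agf.H592.NormB
import Groth.Agent.Sga3B.RG.UnipRep

/-!
# Closed unipotent subgroups are observable
-/

set_option autoImplicit false
set_option linter.unusedSectionVars false

universe u

open WithConv TensorProduct Coalgebra

namespace K496.UnipObs

open Groth.Agent.Sga3B.RG K495.ObsPt Groth.Agent.Agf.H592.NormB

variable {K : Type u} [Field K] [IsAlgClosed K] {A : Type u} [CommRing A] [HopfAlgebra K A]
  [Algebra.FiniteType K A]

/-- Closed subgroups of unipotent elements are observable. -/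
theorem isObs_of_unip {U : Subgroup (Pt K A)} (hcl : IsCl (U : Set (Pt K A)))
    (hU : ∀ g ∈ U, IsUnip g) : IsObs U := by
  obtain ⟨V, _, _, _, ρ, v, hρ, hv, -, hstab⟩ := exists_cyclic_line hcl
  refine isObs_of_vec hρ v fun g => ⟨fun hg => ?_, fun hg => (hstab g).2 ⟨1, by rw [hg, one_smul]⟩⟩
  obtain ⟨c, hc⟩ := (hstab g).1 hg
  obtain ⟨n, hn⟩ := (hU g hg).rep hρ
  have h1 : ∀ m : ℕ, ((ρ g - 1) ^ m) v = (c - 1) ^ m • v := by
    intro m
    induction m with
    | zero => simp
    | succ m ih =>
      rw [pow_succ', Module.End.mul_apply, ih, map_smul, LinearMap.sub_apply, hc,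
        Module.End.one_apply, pow_succ, mul_smul, sub_smul, one_smul]
  have h2 := h1 n
  rw [hn, LinearMap.zero_apply] at h2
  have h3 : c = 1 := by
    rcases smul_eq_zero.1 h2.symm with h | h
    · exact sub_eq_zero.1 (eq_zero_of_pow_eq_zero h)
    · exact absurd h hv
  rw [hc, h3, one_smul]

end K496.UnipObs
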