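import Groth.Agent.Agf.H592.BorelCone
import Groth.Agent.Agf.H581.ValCone
import Mathlib.RingTheory.Valuation.LocalSubring

/-!
# Integrality of semi-invariants of a Borel subgroup

`K` algebraically closed, `A` a finitely generated Hopf domain, `B` a Borel subgroup of the group of
points.  `IsSemi B l f`: `f(xb) = f(x) l(b)` for `b ∈ B`.  If `W i` are sets of semi-invariants with
multipliers `l i` which generate the unit ideal and are contained in the subalgebra `S'`, then every
semi-invariant with multiplier `∏ l i ^ a i` is integral over `S'`.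
-/

set_option autoImplicit false

universe u

open WithConv TensorProduct Coalgebra

namespace K496.ConeInt

open Groth.Agent.Sga3B.RG Groth.Agent.Sga3B.Parab.BorelPts172 Groth.Agent.Agf.H581.ValCone

variable {K : Type u} [Field K] {A : Type u} [CommRing A] [HopfAlgebra K A]

/-- `f(xb) = f(x) l(b)` for all points `x` and all `b ∈ B`. -/
def IsSemi (B : Set (Pt K A)) (l f : A) : Prop := ∀ x : Pt K A, ∀ b ∈ B, (x * b) f = x f * b l

variable [IsAlgClosed K] [Algebra.FiniteType K A]

/-- Semi-invariance for points with values in any algebra. -/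
theorem IsSemi.apply_mul [IsReduced A] {B : Set (Pt K A)} {l f : A} (hf : IsSemi B l f) {L : Type u}
    [CommRing L] [Algebra K L] (g h : WithConv (A →ₐ[K] L)) (hh : ∀ a ∈ vanIdeal B, h a = 0) :
    (g * h) f = g f * h l := by
  classical
  let b := Module.Basis.ofVectorSpace K A
  obtain ⟨c, hc⟩ := TensorProduct.eq_repr_basis_left b (comul (R := K) f)
  have hmul : ∀ {F : Type u} [CommRing F] [Algebra K F] (x y : WithConv (A →ₐ[K] F)),
      (x * y) f = ∑ i ∈ c.support, x (b i) * y (c i) := by
    intro F _ _ x y
    rw [AlgHom.convMul_apply, ← hc, Finsupp.sum, map_sum]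
    exact Finset.sum_congr rfl fun k _ => by rw [Algebra.TensorProduct.lift_tmul]
  have hfsum : f = ∑ i ∈ c.support, counit (R := K) (c i) • b i := by
    refine eq_of_forall_pt (K := K) fun x => ?_
    have h1 : x f = (x * 1) f := by rw [mul_one]
    rw [h1, hmul, Pt.apply_sum]
    refine Finset.sum_congr rfl fun i _ => ?_
    rw [Pt.apply_smul, Pt.one_apply, mul_comm]
  have hcB : ∀ i, c i - counit (R := K) (c i) • l ∈ vanIdeal B := by
    intro i y hy
    by_cases hi : i ∈ c.support
    · have h0 : ∑ i ∈ c.support, (y (c i) - counit (R := K) (c i) * y l) • b i = 0 := by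
        refine eq_zero_of_forall_pt (K := K) fun x => ?_
        rw [Pt.apply_sum]
        have h1 := hf x y hy
        rw [hmul] at h1
        have h2 : x f = ∑ i ∈ c.support, counit (R := K) (c i) * x (b i) := by
          conv_lhs => rw [hfsum]
          rw [Pt.apply_sum]
          exact Finset.sum_congr rfl fun i _ => Pt.apply_smul _ _ _
        rw [h2, Finset.sum_mul, ← sub_eq_zero, ← Finset.sum_sub_distrib] at h1
        rw [← h1]
        refine Finset.sum_congr rfl fun i _ => ?_
        rw [Pt.apply_smul]
        ring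
      have h3 := (linearIndependent_iff'.1 b.linearIndependent) _ _ h0 i hi
      rw [Pt.apply_sub, Pt.apply_smul]
      exact h3
    · rw [Finsupp.notMem_support_iff.1 hi]
      simp [Pt.apply_zero]
  have hh' : ∀ i, h (c i) = algebraMap K L (counit (R := K) (c i)) * h l := by
    intro i
    have h1 := hh _ (hcB i)
    have h2 : h.ofConv (c i - counit (R := K) (c i) • l) = 0 := h1
    rw [map_sub, map_smul, sub_eq_zero, Algebra.smul_def] at h2
    exact h2
  have hg : g f = ∑ i ∈ c.support, algebraMap K L (counit (R := K) (c i)) * g (b i) := by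
    change g.ofConv f = _
    conv_lhs => rw [hfsum]
    rw [map_sum]
    exact Finset.sum_congr rfl fun i _ => by rw [map_smul, Algebra.smul_def]
  rw [hmul, hg, Finset.sum_mul]
  refine Finset.sum_congr rfl fun i _ => ?_
  rw [hh']
  ring

variable [IsDomain A]

/-- **Integrality of semi-invariants.** -/
theorem isIntegral_of_isSemi {B : Subgroup (Pt K A)} (hB : IsBorelPt B) {ι : Type*} (s : Finset ι)
    (n : ι → ℕ) (l : ι → A) (W : ι → Set A) (hW : ∀ i ∈ s, ∀ w ∈ W i, IsSemi (B : Set (Pt K A)) (l i) w)
    (hspan : ∀ i ∈ s, Ideal.span (W i) = ⊤) {f : A}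
    (hf : IsSemi (B : Set (Pt K A)) (∏ i ∈ s, l i ^ n i) f) (S' : Subalgebra K A)
    (hS' : ∀ i ∈ s, W i ⊆ S') : IsIntegral S' f := by
  classical
  obtain ⟨V, _, _, _, ρ, v, hρ, hsimple, hv, hcl, hstab⟩ :=
    Groth.Agent.Agf.H592.BorelCone.exists_closed_line hB
  have hline : BorConj838.lineStab ρ v = B := by
    ext g
    rw [BorConj838.mem_lineStab_iff hv, Submodule.mem_span_singleton, hstab]
    exact exists_congr fun c => eq_comm
  let L := FractionRing A
  let s' : Set L := (algebraMap A L) '' S'
  have hkey : algebraMap A L f ∈ (integralClosure (Subring.closure s') L).toSubring := by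
    rw [← iInf_valuationSubring_superset, Subring.mem_iInf]
    rintro ⟨R, hR⟩
    have hRK : ∀ c : K, algebraMap K L c ∈ R := fun c =>
      hR ⟨algebraMap K A c, S'.algebraMap_mem c, by rw [← IsScalarTower.algebraMap_apply]⟩
    let η : WithConv (A →ₐ[K] L) := toConv (Algebra.algHom K A L)
    obtain ⟨L', _, _, i, R', g₁, h, hR', hg₁, hh, hprod⟩ := cone_step hρ hv hcl R hRK η
    rw [hline] at hh
    have hcomp : ∀ {a l : A}, IsSemi (B : Set (Pt K A)) l a →
        i (algebraMap A L a) = g₁ a * h l := by
      intro a l ha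
      rw [← ha.apply_mul g₁ h hh, ← hprod]
      rfl
    have hl : ∀ j ∈ s, h (l j) ∈ R' := by
      intro j hj
      obtain ⟨w, hw, h0, hwu⟩ : ∃ w ∈ W j, g₁ w ≠ 0 ∧ (g₁ w)⁻¹ ∈ R' := by
        by_contra hcon
        push Not at hcon
        let gR : A →+* R' := (g₁.ofConv : A →+* L').codRestrict R'.toSubring hg₁
        have h1 : Ideal.span (W j) ≤ (IsLocalRing.maximalIdeal R').comap gR := by
          rw [Ideal.span_le]
          intro w hw
          change gR w ∈ IsLocalRing.maximalIdeal R'
          rw [IsLocalRing.mem_maximalIdeal, mem_nonunits_iff]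
          intro hu
          obtain ⟨r, hr⟩ := isUnit_iff_exists_inv.1 hu
          have h2 : g₁ w * (r : L') = 1 := congrArg Subtype.val hr
          refine hcon w hw (left_ne_zero_of_mul_eq_one h2) ?_
          rw [inv_eq_of_mul_eq_one_right h2]
          exact r.2
        rw [hspan j hj, top_le_iff, Ideal.comap_eq_top_iff] at h1
        exact (IsLocalRing.maximalIdeal.isMaximal R').ne_top h1
      have h1 := hcomp (hW j hj w hw)
      have h2 : i (algebraMap A L w) ∈ R' := by
        have h3 : algebraMap A L w ∈ R'.comap (i : L →+* L') := by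
          rw [hR']
          exact hR ⟨w, hS' j hj hw, rfl⟩
        exact h3
      have h4 : h (l j) = i (algebraMap A L w) * (g₁ w)⁻¹ := by
        rw [h1, mul_comm (g₁ w), mul_assoc, mul_inv_cancel₀ h0, mul_one]
      rw [h4]
      exact R'.mul_mem _ _ h2 hwu
    have h5 : i (algebraMap A L f) ∈ R' := by
      rw [hcomp hf]
      refine R'.mul_mem _ _ (hg₁ f) ?_
      have h6 : h (∏ j ∈ s, l j ^ n j) = ∏ j ∈ s, h (l j) ^ n j := by
        change h.ofConv _ = _
        rw [map_prod]
        exact Finset.prod_congr rfl fun j _ => map_pow _ _ _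
      rw [h6]
      exact R'.toSubring.prod_mem fun j hj => R'.toSubring.pow_mem (hl j hj) _
    have h7 : algebraMap A L f ∈ R'.comap (i : L →+* L') := h5
    rw [hR'] at h7
    exact h7
  have h1 : Subring.closure s' ≤ (algebraMap S' L).range := by
    rw [Subring.closure_le]
    rintro _ ⟨a, ha, rfl⟩
    exact ⟨⟨a, ha⟩, rfl⟩
  have h2 : IsIntegral S' (algebraMap A L f) := by
    obtain ⟨p, hp, hp0⟩ : IsIntegral (Subring.closure s') (algebraMap A L f) := hkey
    have h3 : ∀ x : Subring.closure s', ∃ y : S', algebraMap S' L y = (x : L) := fun x => h1 x.2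
    have h4 : IsIntegral (algebraMap S' L).range (algebraMap A L f) :=
      ⟨p.map (Subring.inclusion h1), hp.map _, by rw [Polynomial.eval₂_map]; exact hp0⟩
    obtain ⟨q, hq, hq0⟩ := h4
    have hsurj : Function.Surjective (algebraMap S' L).rangeRestrict :=
      (algebraMap S' L).rangeRestrict_surjective
    obtain ⟨q', hq', -, hq'm⟩ := Polynomial.lifts_and_natDegree_eq_and_monic
      ((Polynomial.lifts_iff_coeff_lifts q).2 fun n => hsurj (q.coeff n)) hq
    refine ⟨q', hq'm, ?_⟩
    rw [← hq', Polynomial.eval₂_map] at hq0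
    exact hq0
  exact (isIntegral_algebraMap_iff (IsFractionRing.injective A L)).1 h2

end K496.ConeInt
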