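import Mathlib.RingTheory.FiniteType
import Mathlib.RingTheory.Adjoin.FG
import Mathlib.GroupTheory.Finiteness
import Mathlib.Algebra.MvPolynomial.Basic
import Mathlib.Algebra.MvPolynomial.Eval
import Mathlib.RingTheory.MvPolynomial.Basic
import Mathlib.Order.WellFoundedSet
import Mathlib.GroupTheory.Subgroup.Centralizer

/-!
# The part of weight one of a finitely generated algebra graded by a commutative group
-/

set_option autoImplicit false

universe u v w

namespace K496.DegOne

open MvPolynomial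

variable {K : Type u} {A : Type v} [CommRing K] [CommRing A] [Algebra K A] {X : Type w}
  [CommGroup X] (S : X → Submodule K A)

/-- The monoid of exponents of weight one is finitely generated. -/
theorem fg_exps {n : ℕ} (w : Fin n → X) :
    ∃ t : Finset (Fin n → ℕ), (∀ m ∈ t, ∏ i, w i ^ m i = 1) ∧
      ∀ m : Fin n → ℕ, ∏ i, w i ^ m i = 1 → m ∈ AddSubmonoid.closure (t : Set (Fin n → ℕ)) := by
  let P : AddSubmonoid (Fin n → ℕ) :=
    { carrier := {m | ∏ i, w i ^ m i = 1}
      zero_mem' := by simp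
      add_mem' := by
        intro a b ha hb
        change ∏ i, w i ^ (a i + b i) = 1
        simp only [pow_add]
        rw [Finset.prod_mul_distrib]
        change ∏ i, w i ^ a i = 1 at ha
        change ∏ i, w i ^ b i = 1 at hb
        rw [ha, hb, one_mul] }
  have hP : P.FG := by
    apply AddSubmonoid.fg_of_subtractive
    intro a ha b hab
    change ∏ i, w i ^ (a i + b i) = 1 at hab
    simp only [pow_add] at hab
    rw [Finset.prod_mul_distrib] at hab
    change ∏ i, w i ^ a i = 1 at ha
    rwa [ha, one_mul] at hab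
  obtain ⟨t, ht⟩ := hP
  refine ⟨t, fun m hm => ?_, fun m hm => ?_⟩
  · have : m ∈ P := by rw [← ht]; exact AddSubmonoid.subset_closure hm
    exact this
  · rw [ht]; exact hm

variable {S}

/-- **The part of weight one of a finitely generated graded algebra is finitely generated.** -/
theorem fg_degOne (h1 : (1 : A) ∈ S 1)
    (hmul : ∀ χ χ' f f', f ∈ S χ → f' ∈ S χ' → f * f' ∈ S (χ * χ'))
    (hindep : ∀ (s : Finset X) (c : X → A), (∀ χ ∈ s, c χ ∈ S χ) → ∑ χ ∈ s, c χ = 0 →
      ∀ χ ∈ s, c χ = 0)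
    {R : Subalgebra K A} (hR : R.FG)
    (hdec : ∀ r ∈ R, ∃ (s : Finset X) (c : X → A), (∀ χ ∈ s, c χ ∈ S χ ∧ c χ ∈ R) ∧
      r = ∑ χ ∈ s, c χ)
    {R₁ : Subalgebra K A} (hR₁ : ∀ f, f ∈ R₁ ↔ f ∈ R ∧ f ∈ S 1) : R₁.FG := by
  classical
  obtain ⟨t, ht⟩ := hR
  have ht' : ∀ r ∈ t, r ∈ R := fun r hr => by rw [← ht]; exact Algebra.subset_adjoin hr
  choose! σ c hc hr using hdec
  -- homogeneous generators
  let T : Finset (X × A) := t.biUnion fun r => (σ r).image fun χ => (χ, c r χ)
  have hT : ∀ p ∈ T, p.2 ∈ S p.1 ∧ p.2 ∈ R := by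
    intro p hp
    obtain ⟨r, hr', hp⟩ := Finset.mem_biUnion.1 hp
    obtain ⟨χ, hχ, rfl⟩ := Finset.mem_image.1 hp
    exact hc r (ht' r hr') χ hχ
  let n := T.card
  let e : Fin n ≃ T := T.equivFin.symm
  let g : Fin n → A := fun i => (e i : X × A).2
  let w : Fin n → X := fun i => (e i : X × A).1
  have hg : ∀ i, g i ∈ S (w i) ∧ g i ∈ R := fun i => hT _ (e i).2
  have hadj : R = Algebra.adjoin K (Set.range g) := by
    apply le_antisymm
    · rw [← ht, Algebra.adjoin_le_iff]
      intro r hr'
      rw [hr r (ht' r hr')]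
      refine Subalgebra.sum_mem _ fun χ hχ => Algebra.subset_adjoin ?_
      have h2 : (χ, c r χ) ∈ T :=
        Finset.mem_biUnion.2 ⟨r, hr', Finset.mem_image.2 ⟨χ, hχ, rfl⟩⟩
      refine ⟨e.symm ⟨_, h2⟩, ?_⟩
      change (e (e.symm ⟨_, h2⟩) : X × A).2 = _
      rw [Equiv.apply_symm_apply]
    · rw [Algebra.adjoin_le_iff]
      rintro _ ⟨i, rfl⟩
      exact (hg i).2
  have hprod : ∀ m : Fin n → ℕ, ∏ i, g i ^ m i ∈ S (∏ i, w i ^ m i) := by
    intro m
    have hpow : ∀ (i : Fin n) (j : ℕ), g i ^ j ∈ S (w i ^ j) := by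
      intro i j
      induction j with
      | zero => simpa using h1
      | succ j ih => rw [pow_succ, pow_succ]; exact hmul _ _ _ _ ih (hg i).1
    have : ∀ s : Finset (Fin n), ∏ i ∈ s, g i ^ m i ∈ S (∏ i ∈ s, w i ^ m i) := by
      intro s
      induction s using Finset.induction_on with
      | empty => simpa using h1
      | insert a s ha ih =>
        rw [Finset.prod_insert ha, Finset.prod_insert ha]
        exact hmul _ _ _ _ (hpow _ _) ih
    exact this _
  obtain ⟨E, hE1, hE2⟩ := fg_exps w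
  refine ⟨E.image fun m => ∏ i, g i ^ m i, le_antisymm ?_ ?_⟩
  · rw [Algebra.adjoin_le_iff, Finset.coe_image]
    rintro _ ⟨m, hm, rfl⟩
    refine (hR₁ _).2 ⟨Subalgebra.prod_mem _ fun i _ => Subalgebra.pow_mem _ (hg i).2 _, ?_⟩
    have := hprod m
    rwa [hE1 m hm] at this
  · intro f hf
    obtain ⟨hfR, hfS⟩ := (hR₁ f).1 hf
    rw [hadj, Algebra.adjoin_range_eq_range_aeval] at hfR
    obtain ⟨p, hp⟩ := hfR
    have hp' : f = ∑ m ∈ p.support, p.coeff m • ∏ i, g i ^ m i := by
      rw [← hp]
      change aeval g p = _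
      conv_lhs => rw [p.as_sum, map_sum]
      refine Finset.sum_congr rfl fun m _ => ?_
      rw [aeval_monomial, Algebra.smul_def, Finsupp.prod_fintype _ _ fun i => by simp]
    -- group by weights
    let W : (Fin n →₀ ℕ) → X := fun m => ∏ i, w i ^ m i
    let F : X → A := fun χ => ∑ m ∈ p.support with W m = χ, p.coeff m • ∏ i, g i ^ m i
    have hF : ∀ χ, F χ ∈ S χ := by
      intro χ
      refine Submodule.sum_mem _ fun m hm => Submodule.smul_mem _ _ ?_
      have := hprod m
      rw [Finset.mem_filter] at hm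
      have h3 : ∏ i, w i ^ m i = χ := hm.2
      rwa [h3] at this
    let s : Finset X := insert 1 (p.support.image W)
    have hfF : f = ∑ χ ∈ s, F χ := by
      rw [hp']
      simp only [F]
      refine (Finset.sum_fiberwise_of_maps_to (g := W) (fun m hm => ?_) _).symm
      exact Finset.mem_insert_of_mem (Finset.mem_image_of_mem _ hm)
    have hz := hindep s (fun χ => F χ - if χ = 1 then f else 0) (fun χ _ => by
      refine Submodule.sub_mem _ (hF χ) ?_
      split_ifs with h
      · rw [h]; exact hfS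
      · exact Submodule.zero_mem _) (by
        rw [Finset.sum_sub_distrib, ← hfF, Finset.sum_ite_eq' s 1, if_pos (Finset.mem_insert_self _ _),
          sub_self]) 1 (Finset.mem_insert_self _ _)
    simp only [if_true] at hz
    rw [(sub_eq_zero.1 hz).symm]
    refine Subalgebra.sum_mem _ fun m hm => Subalgebra.smul_mem _ ?_ _
    have hm' : ∏ i, w i ^ m i = 1 := (Finset.mem_filter.1 hm).2
    have h4 := hE2 m hm'
    rw [Finset.coe_image]
    generalize (m : Fin n → ℕ) = m' at h4
    induction h4 using AddSubmonoid.closure_induction with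
    | mem y hy => exact Algebra.subset_adjoin ⟨y, hy, rfl⟩
    | zero => simp
    | add a b _ _ iha ihb =>
      have h5 : ∏ i, g i ^ (a + b) i = (∏ i, g i ^ a i) * ∏ i, g i ^ b i := by
        rw [← Finset.prod_mul_distrib]
        exact Finset.prod_congr rfl fun i _ => pow_add _ _ _
      rw [h5]
      exact Subalgebra.mul_mem _ iha ihb

end K496.DegOne
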