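import Groth.Agent.AGF.K496.GrossPt
import Mathlib.FieldTheory.IsAlgClosed.Basic

/-!
# Finite-dimensionality of the spaces of semi-invariants of a Borel subgroup

`K` algebraically closed, `A` a finitely generated Hopf domain, `B` a Borel subgroup of the group of
points.  The space `S B χ` of semi-invariants with character `χ` is finite-dimensional; `S B 1 = K`.
-/

set_option autoImplicit false
set_option linter.unusedSectionVars false

universe u

open WithConv TensorProduct Coalgebra

namespace K496.FinDim

open Groth.Agent.Sga3B.RG Groth.Agent.Sga3B.Parab.BorelPts172 K496.ConeInt K496.Semi K496.GrossPt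
open Groth.Agent.Sga3B.RG.Trig Groth.Agent.Sga3B.RG.TrigTorus

variable {K : Type u} [Field K] [IsAlgClosed K] {A : Type u} [CommRing A] [HopfAlgebra K A]
  [Algebra.FiniteType K A] [IsDomain A]

omit [Algebra.FiniteType K A] in
/-- Integral elements are constants. -/
theorem exists_const_of_isIntegral {f : A} (hf : IsIntegral K f) : ∃ c : K, f = algebraMap K A c := by
  let D := Algebra.adjoin K ({f} : Set A)
  have hD : Algebra.IsIntegral K D :=
    Algebra.isIntegral_def.2 fun x => by
      have h1 : IsIntegral K (x : A) := by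
        have h2 : D ≤ integralClosure K A := by
          rw [Algebra.adjoin_le_iff]
          intro y hy
          rw [Set.mem_singleton_iff.1 hy]
          exact hf
        exact h2 x.2
      exact (isIntegral_algHom_iff D.val Subtype.val_injective).1 h1
  obtain ⟨c, hc⟩ := (IsAlgClosed.algebraMap_bijective_of_isIntegral (k := K) (K := D)).2
    ⟨f, Algebra.self_mem_adjoin_singleton K f⟩
  exact ⟨c, (congrArg Subtype.val hc).symm⟩

/-- Semi-invariants with trivial character are constants. -/
theorem exists_const {B : Subgroup (Pt K A)} (hB : IsBorelPt B) {f : A} (hf : f ∈ S B 1) :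
    ∃ c : K, f = algebraMap K A c := by
  have h1 : IsSemi (B : Set (Pt K A)) (∏ i ∈ (∅ : Finset ℕ), (fun _ => (1 : A)) i ^ (fun _ => 0) i)
      f := by
    intro x b hb
    rw [Finset.prod_empty, Pt.apply_one, mul_one]
    have := hf x b hb
    rwa [lft_one hB.isCl hb, mul_one] at this
  have h2 := isIntegral_of_isSemi hB (∅ : Finset ℕ) (fun _ => 0) (fun _ => (1 : A)) (fun _ => ∅)
    (by simp) (by simp) h1 (⊥ : Subalgebra K A) (by simp)
  refine exists_const_of_isIntegral ?_
  have h3 : Algebra.IsIntegral K (⊥ : Subalgebra K A) := by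
    refine Algebra.isIntegral_def.2 fun x => ?_
    obtain ⟨c, hc⟩ := Algebra.mem_bot.1 x.2
    have h4 : x = algebraMap K (⊥ : Subalgebra K A) c := Subtype.ext hc.symm
    rw [h4]
    exact isIntegral_algebraMap
  exact isIntegral_trans f h2

/-- **Finite-dimensionality of the spaces of semi-invariants.** -/
theorem finiteDimensional_S {B : Subgroup (Pt K A)} (hB : IsBorelPt B)
    (χ : GroupLike K (A ⧸ vanIdeal (B : Set (Pt K A)))) : FiniteDimensional K (S B χ) := by
  classical
  have hcl := hB.isCl
  have hfg : Algebra.FiniteType K (rInv B) := (Subalgebra.fg_iff_finiteType _).1 (fg_rInv hB)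
  have hN : IsNoetherianRing (rInv B) := Algebra.FiniteType.isNoetherianRing K _
  let X : Set (rInv B) := {r | (r : A) ∈ S B χ}
  have h1 : (Submodule.span (rInv B) X).FG := IsNoetherian.noetherian _
  obtain ⟨t, ht1, ht2⟩ := Submodule.fg_span_iff_fg_span_finset_subset _ |>.1 h1
  have htrig := isTrig_of_isCCS hB.toIsCCS
  -- decompositions
  have hdec : ∀ r : rInv B, ∃ (s : Finset (GroupLike K (A ⧸ vanIdeal (B : Set (Pt K A)))))
      (c : GroupLike K (A ⧸ vanIdeal (B : Set (Pt K A))) → A), (∀ χ, c χ ∈ S B χ) ∧
      (∀ χ, χ ∉ s → c χ = 0) ∧ (r : A) = ∑ χ ∈ s, c χ := by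
    intro r
    obtain ⟨s, c, hc, hr⟩ := exists_decomp hB.isCl hB.isConn htrig r.2
    refine ⟨s, fun χ => if χ ∈ s then c χ else 0, fun χ => ?_, fun χ hχ => if_neg hχ, ?_⟩
    · by_cases h : χ ∈ s
      · simp only [if_pos h]; exact hc χ h
      · simp only [if_neg h]; exact Submodule.zero_mem _
    · rw [hr]
      exact Finset.sum_congr rfl fun χ hχ => (if_pos hχ).symm
  choose σ c hc hc0 hcs using hdec
  have hSr : ∀ f ∈ S B χ, f ∈ rInv B := by
    intro f hf x u hu hu'
    have h1 := hf x u hu
    obtain ⟨y, rfl⟩ := exists_quotMap_eq hB.isCl hu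
    rw [isUnip_map_iff Ideal.Quotient.mk_surjective] at hu'
    rw [h1, quotMap_lft, (isUnip_iff (isTrig_of_isCCS hB.toIsCCS) y).1 hu' χ, mul_one]
  have hle : S B χ ≤ Submodule.span K ((t.image (fun r : rInv B => (r : A)) : Finset A) : Set A) := by
    intro f hf
    have h2 : (⟨f, hSr f hf⟩ : rInv B) ∈ Submodule.span (rInv B) (t : Set (rInv B)) := by
      rw [← ht2]
      exact Submodule.subset_span hf
    obtain ⟨g, hg⟩ := Submodule.mem_span_finset.1 h2
    have hfg : f = ∑ i ∈ t, (g i : A) * (i : A) := by
      have := congrArg (fun r : rInv B => (r : A)) hg.2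
      simp only [smul_eq_mul] at this
      rw [← this]
      simp
    -- all the characters
    let s := t.biUnion (fun i => σ (g i)) ∪ {1}
    have hsum : ∀ i ∈ t, (g i : A) = ∑ χ' ∈ s, c (g i) χ' := by
      intro i hi
      rw [hcs (g i)]
      refine Finset.sum_subset ?_ fun χ' _ h => hc0 _ _ h
      intro χ' hχ'
      exact Finset.mem_union_left _ (Finset.mem_biUnion.2 ⟨i, hi, hχ'⟩)
    let F : GroupLike K (A ⧸ vanIdeal (B : Set (Pt K A))) → A := fun χ' =>
      ∑ i ∈ t, c (g i) χ' * (i : A)
    have hF : ∀ χ', F χ' ∈ S B (χ' * χ) := by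
      intro χ'
      exact Submodule.sum_mem _ fun i hi => S_mul hcl (hc _ _) (ht1 hi)
    have hfF : f = ∑ χ' ∈ s, F χ' := by
      rw [hfg]
      simp only [F]
      rw [Finset.sum_comm]
      refine Finset.sum_congr rfl fun i hi => ?_
      rw [hsum i hi, Finset.sum_mul]
    -- independence
    have h1s : (1 : GroupLike K (A ⧸ vanIdeal (B : Set (Pt K A)))) ∈ s :=
      Finset.mem_union_right _ (Finset.mem_singleton_self _)
    let G : GroupLike K (A ⧸ vanIdeal (B : Set (Pt K A))) → A := fun ψ =>
      F (ψ * χ⁻¹) - if ψ = χ then f else 0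
    have hG : ∑ ψ ∈ s.map (Equiv.mulRight χ).toEmbedding, G ψ = 0 := by
      rw [Finset.sum_map]
      simp only [G, Equiv.coe_toEmbedding, Equiv.coe_mulRight, mul_inv_cancel_right]
      rw [Finset.sum_sub_distrib, ← hfF]
      simp only [mul_eq_right]
      rw [Finset.sum_ite_eq' s 1, if_pos h1s, sub_self]
    have hG1 := S_indep hcl (s.map (Equiv.mulRight χ).toEmbedding) G (fun ψ _ => by
      refine Submodule.sub_mem _ ?_ ?_
      · have := hF (ψ * χ⁻¹)
        rwa [inv_mul_cancel_right] at this
      · split_ifs with h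
        · rw [h]; exact hf
        · exact Submodule.zero_mem _) hG χ (by
          rw [Finset.mem_map]
          exact ⟨1, h1s, by simp⟩)
    have hf1 : f = F 1 := by
      simp only [G, if_pos, mul_inv_cancel] at hG1
      exact (sub_eq_zero.1 hG1).symm
    rw [hf1]
    refine Submodule.sum_mem _ fun i hi => ?_
    obtain ⟨a, ha⟩ := exists_const hB (hc (g i) 1)
    rw [ha, ← Algebra.smul_def]
    exact Submodule.smul_mem _ _ (Submodule.subset_span (Finset.mem_coe.2
      (Finset.mem_image_of_mem _ hi)))
  have hfd : FiniteDimensional K (Submodule.span K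
      ((t.image (fun r : rInv B => (r : A)) : Finset A) : Set A)) :=
    FiniteDimensional.span_finset K _
  exact Submodule.finiteDimensional_of_le hle

end K496.FinDim
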