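import Groth.Agent.AGF.K496.Disc
import Groth.Agent.AGF.K496.FinDim
import Groth.Agent.AGF.K496.DegOne
import Groth.Agent.AGF.K495.FGPt
import Groth.Agent.Sga3B.RG.BorConj838

/-!
# Closed subgroups containing a maximal unipotent subgroup are Grosshans subgroups

`A` a reduced finitely generated Hopf algebra over the algebraically closed field `K`, `B` a Borel
subgroup of the group of points, `U` the set of unipotent elements of `B`, `H ⊇ U` closed.  Then the
algebra of functions right-invariant under `H` is finitely generated (`fg_rInv_of_le`).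
-/

set_option autoImplicit false
set_option linter.unusedSectionVars false

universe u

open WithConv TensorProduct Coalgebra Pointwise

namespace K496.Contain

open Groth.Agent.Sga3B.RG Groth.Agent.Sga3B.Parab.BorelPts172 K495.ObsPt K496.Semi
open Groth.Agent.Sga3B.RG.Trig Groth.Agent.Sga3B.RG.TrigTorus

variable {K : Type u} [Field K] {A : Type u} [CommRing A] [HopfAlgebra K A]
  {C : Type u} [CommRing C] [HopfAlgebra K C]

/-- Images of closed connected solvable subgroups under closed embeddings. -/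
lemma isCCS_map {φ : A →ₐc[K] C} (hφ : Function.Surjective φ) {H : Subgroup (Pt K C)}
    (hH : IsCCS H) : IsCCS (H.map (Pt.map φ)) where
  isCl := by
    rw [Subgroup.coe_map]
    exact hH.isCl.image_map hφ
  isConn := by
    rw [Subgroup.coe_map]
    exact hH.isConn.image_map φ
  isSolvable := by
    have := hH.isSolvable
    exact Group.isSolvable_of_surjective (f := (Pt.map φ).subgroupMap H)
      ((Pt.map φ).subgroupMap_surjective H)

lemma isCCS_comap {φ : A →ₐc[K] C} (hφ : Function.Surjective φ) {H : Subgroup (Pt K A)}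
    (hH : IsCCS H) (hle : H ≤ (Pt.map (K := K) φ).range) : IsCCS (H.comap (Pt.map φ)) where
  isCl := hH.isCl.preimage_map φ
  isConn := by
    apply isConn_of_image_map hφ
    rw [← Subgroup.coe_map, Subgroup.map_comap_eq, inf_eq_right.2 hle]
    exact hH.isConn
  isSolvable := by
    have := hH.isSolvable
    let f : H.comap (Pt.map φ) →* H :=
      ((Pt.map φ).comp (H.comap (Pt.map φ)).subtype).codRestrict H fun x => x.2
    exact Group.isSolvable_of_isSolvable_injective (f := f) fun x y hxy =>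
      Subtype.ext (Pt.map_injective hφ (congrArg Subtype.val hxy))

variable [IsAlgClosed K] [Algebra.FiniteType K A]

/-- A closed subgroup is not conjugate to a proper subgroup of itself. -/
theorem eq_of_conj_mem {H : Subgroup (Pt K A)} (hH : IsCl (H : Set (Pt K A)))
    {g : Pt K A} (h : ∀ x ∈ H, g * x * g⁻¹ ∈ H) {x : Pt K A} (hx : g * x * g⁻¹ ∈ H) : x ∈ H := by
  have hNoeth : IsNoetherianRing A := Algebra.FiniteType.isNoetherianRing K A
  let f : MulAut (Pt K A) := MulAut.conj g
  let Y : ℕ → Set (Pt K A) := fun n => (fun x => (f ^ n) x) '' (H : Set (Pt K A))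
  have hYcl : ∀ n, IsCl (Y n) := by
    intro n
    have h1 := IsCl.conj hH (g ^ n)
    have h2 : ∀ x, (f ^ n) x = g ^ n * x * (g ^ n)⁻¹ := by
      intro x
      change ((MulAut.conj g) ^ n) x = _
      rw [← map_pow, MulAut.conj_apply]
    have h3 : Y n = (fun x => g ^ n * x * (g ^ n)⁻¹) '' (H : Set (Pt K A)) :=
      Set.image_congr fun x _ => h2 x
    rw [h3]
    exact h1
  have hYanti : ∀ n, Y (n + 1) ⊆ Y n := by
    rintro n _ ⟨y, hy, rfl⟩
    refine ⟨g * y * g⁻¹, h y hy, ?_⟩
    change (f ^ n) (f y) = (f ^ (n + 1)) y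
    rw [pow_succ, MulAut.mul_apply]
  let I : ℕ →o Ideal A := ⟨fun n => vanIdeal (Y n), monotone_nat_of_le_succ fun n =>
    vanIdeal_anti (hYanti n)⟩
  obtain ⟨n, hn⟩ := monotone_stabilizes_iff_noetherian.2 (inferInstance : IsNoetherian A A) I
  have h1 : Y n = Y (n + 1) := (hYcl n).ext (hYcl (n + 1)) (hn (n + 1) (Nat.le_succ n))
  have h2 : (f ^ (n + 1)) x ∈ Y n := by
    refine ⟨g * x * g⁻¹, hx, ?_⟩
    change (f ^ n) (f x) = (f ^ (n + 1)) x
    rw [pow_succ, MulAut.mul_apply]
  rw [h1] at h2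
  obtain ⟨y, hy, hyx⟩ := h2
  have h3 : y = x := (f ^ (n + 1)).injective hyx
  rwa [← h3]

variable [IsReduced A]

/-- The unipotent elements of a closed connected solvable subgroup form a closed connected
subgroup. -/
theorem isCCS_unip {B U : Subgroup (Pt K A)} (hB : IsCCS B)
    (hU : ∀ g, g ∈ U ↔ g ∈ B ∧ IsUnip g) : IsCCS U := by
  have hdom : IsDomain (A ⧸ vanIdeal (B : Set (Pt K A))) :=
    (Ideal.Quotient.isDomain_iff_prime _).2 hB.isConn
  let φ := Bialgebra.Quotient.mkBialgHom (R := K) (vanIdeal (B : Set (Pt K A)))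
  have hφ : Function.Surjective φ := Ideal.Quotient.mk_surjective
  have hrange : (Pt.map φ).range = B := range_quotMap_vanIdeal B hB.isCl
  have htrig := K496.GrossPt.isTrig_of_isCCS hB
  have hUeq : U = (Gu K (A ⧸ vanIdeal (B : Set (Pt K A)))).map (Pt.map φ) := by
    ext g
    rw [hU, Subgroup.mem_map]
    constructor
    · rintro ⟨hg, hg'⟩
      rw [← hrange] at hg
      obtain ⟨x, rfl⟩ := hg
      exact ⟨x, (isUnip_iff htrig x).1 ((isUnip_map_iff hφ).1 hg'), rfl⟩
    · rintro ⟨x, hx, rfl⟩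
      refine ⟨?_, (isUnip_map_iff hφ).2 ((isUnip_iff htrig x).2 hx)⟩
      have h1 : Pt.map φ x ∈ (Pt.map φ).range := ⟨x, rfl⟩
      rwa [hrange] at h1
  refine ⟨?_, ?_, ?_⟩
  · rw [hUeq, Subgroup.coe_map]
    exact isCl_Gu.image_map hφ
  · rw [hUeq, Subgroup.coe_map]
    exact (isConn_Gu htrig).image_map φ
  · have := hB.isSolvable
    have hle : U ≤ B := fun g hg => ((hU g).1 hg).1
    exact Group.isSolvable_of_isSolvable_injective (Subgroup.inclusion_injective hle)

/-- The unipotent elements of a closed connected solvable subgroup containing the unipotent elements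
of a Borel subgroup. -/
theorem mem_of_isUnip {B U D : Subgroup (Pt K A)} (hB : IsBorelPt B)
    (hU : ∀ g, g ∈ U ↔ g ∈ B ∧ IsUnip g) (hD : IsCCS D) (hUD : U ≤ D) {d : Pt K A} (hd : d ∈ D)
    (hd' : IsUnip d) : d ∈ U := by
  obtain ⟨g, hg⟩ := hB.exists_conj_le hD
  have hconj : ∀ x ∈ D, IsUnip x → g * x * g⁻¹ ∈ U := by
    intro x hx hx'
    rw [hU]
    exact ⟨hg ⟨x, hx, rfl⟩, hx'.conj g⟩
  exact eq_of_conj_mem (isCCS_unip hB.toIsCCS hU).isCl
    (fun x hx => hconj x (hUD hx) ((hU x).1 hx).2) (hconj d hd hd')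

/-- The invariants of a closed connected solvable subgroup with Grosshans unipotent part. -/
theorem fg_rInv_of_isCCS {D U : Subgroup (Pt K A)} (hD : IsCCS D)
    (hU : ∀ g, g ∈ U ↔ g ∈ D ∧ IsUnip g) (hfg : (rInv (U : Set (Pt K A))).FG) :
    (rInv (D : Set (Pt K A))).FG := by
  have htrig := K496.GrossPt.isTrig_of_isCCS hD
  have hS : ∀ χ f, f ∈ S D χ → f ∈ rInv (U : Set (Pt K A)) := by
    intro χ f hf x u hu
    obtain ⟨hu1, hu2⟩ := (hU u).1 hu
    have h1 := hf x u hu1
    obtain ⟨y, rfl⟩ := exists_quotMap_eq hD.isCl hu1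
    rw [isUnip_map_iff Ideal.Quotient.mk_surjective] at hu2
    rw [h1, quotMap_lft, (isUnip_iff htrig y).1 hu2 χ, mul_one]
  refine K496.DegOne.fg_degOne (S := S D) (one_mem_S hD.isCl)
    (fun χ χ' f f' hf hf' => S_mul hD.isCl hf hf') (S_indep hD.isCl) hfg (fun r hr => ?_)
    (fun f => ?_)
  · obtain ⟨s, c, hc, hr⟩ := exists_decomp hD.isCl hD.isConn htrig (f := r)
      (fun x u hu hu' => hr x u ((hU u).2 ⟨hu, hu'⟩))
    exact ⟨s, c, fun χ hχ => ⟨hc χ hχ, hS χ _ (hc χ hχ)⟩, hr⟩
  · constructor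
    · intro hf
      refine ⟨rInv_anti (fun g hg => ((hU g).1 hg).1) hf, ?_⟩
      intro x b hb
      rw [lft_one hD.isCl hb, mul_one]
      exact hf x b hb
    · rintro ⟨-, hf⟩ x b hb
      have h1 := hf x b hb
      rwa [lft_one hD.isCl hb, mul_one] at h1

/-- Functions invariant under a Borel subgroup of a closed connected subgroup are invariant under
the subgroup. -/
theorem rInv_eq_of_borel {φ : A →ₐc[K] C} (hφ : Function.Surjective φ) [IsDomain C]
    {B : Subgroup (Pt K C)} (hB : IsBorelPt B) :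
    rInv ((B.map (Pt.map φ) : Subgroup (Pt K A)) : Set (Pt K A)) =
      rInv ((Pt.map (K := K) φ).range : Set (Pt K A)) := by
  have hft : Algebra.FiniteType K C := Algebra.FiniteType.of_surjective (φ : A →ₐ[K] C) hφ
  apply le_antisymm
  · intro f hf
    suffices h : ∀ f ∈ rInv ((B.map (Pt.map φ) : Subgroup (Pt K A)) : Set (Pt K A)), ∀ y : Pt K C,
        (Pt.map φ y) f = (1 : Pt K A) f by
      rintro x _ ⟨y, rfl⟩
      have h1 := h _ (lTr_mem_rInv hf x⁻¹) y
      rw [lTr_apply_pt, lTr_apply_pt, inv_inv, mul_one] at h1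
      exact h1
    intro f hf y
    have h1 : φ f ∈ S B 1 := by
      intro x b hb
      rw [lft_one hB.isCl hb, mul_one]
      have h2 := hf (Pt.map φ x) (Pt.map φ b) ⟨b, hb, rfl⟩
      rw [← map_mul] at h2
      exact h2
    obtain ⟨c, hc⟩ := K496.FinDim.exists_const hB h1
    have h3 : ∀ z : Pt K C, (Pt.map φ z) f = c := by
      intro z
      change z (φ f) = c
      rw [hc, Pt.apply_algebraMap]
    rw [h3, ← map_one (Pt.map φ), h3]
  · refine rInv_anti ?_
    rintro _ ⟨b, -, rfl⟩
    exact ⟨b, rfl⟩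

/-- **Closed subgroups containing a maximal unipotent subgroup are Grosshans subgroups**, on
points. -/
theorem fg_rInv_of_le {B U H : Subgroup (Pt K A)} (hB : IsBorelPt B)
    (hU : ∀ g, g ∈ U ↔ g ∈ B ∧ IsUnip g) (hH : IsCl (H : Set (Pt K A))) (hUH : U ≤ H) :
    (rInv (H : Set (Pt K A))).FG := by
  have hUccs := isCCS_unip hB.toIsCCS hU
  have hUfg := K496.Disc.fg_rInv hB hU
  rw [K495.FGPt.fg_iff_of_relIndex (idComp_le hH) (relIndex_idComp_ne_zero hH)]
  set N := idComp H with hN
  have hUN : U ≤ N := le_idComp hUccs.isConn hUH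
  have hNcl : IsCl (N : Set (Pt K A)) := isCl_idComp _
  have hdom : IsDomain (A ⧸ vanIdeal (N : Set (Pt K A))) :=
    (Ideal.Quotient.isDomain_iff_prime _).2 (isConn_idComp _)
  let φ := Bialgebra.Quotient.mkBialgHom (R := K) (vanIdeal (N : Set (Pt K A)))
  have hφ : Function.Surjective φ := Ideal.Quotient.mk_surjective
  have hrange : (Pt.map φ).range = N := range_quotMap_vanIdeal N hNcl
  obtain ⟨B', hB', hUB'⟩ := (isCCS_comap hφ hUccs (by rw [hrange]; exact hUN)).exists_isBorelPt
  have hD : IsCCS (B'.map (Pt.map φ)) := isCCS_map hφ hB'.toIsCCS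
  have hUD : U ≤ B'.map (Pt.map φ) := by
    intro g hg
    have h1 := hUN hg
    rw [← hrange] at h1
    obtain ⟨y, rfl⟩ := h1
    exact ⟨y, hUB' hg, rfl⟩
  rw [← hrange, ← rInv_eq_of_borel hφ hB']
  refine fg_rInv_of_isCCS hD (fun g => ⟨fun hg => ⟨hUD hg, ((hU g).1 hg).2⟩, fun hg => ?_⟩) hUfg
  exact mem_of_isUnip hB hU hD hUD hg.1 hg.2

end K496.Contain
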