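import Groth.Agent.AGF.K496.GrossPt
import Groth.Agent.AGF.K495.ObsMore
import Groth.Agent.Sga3B.RG.IdComp
import Groth.Agent.Sga3B.RG.PbNorm838

/-!
# Finite generation of invariants: reduction to the identity component

`A` a reduced finitely generated Hopf algebra over the algebraically closed field `K`, `N` a closed
subgroup of finite index of the group of points, `U ≤ N`.  If the functions on `N` right-invariant
under `U` form a finitely generated algebra, so do the functions on the whole group.
-/

set_option autoImplicit false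
set_option linter.unusedSectionVars false

universe u

open WithConv TensorProduct Coalgebra Pointwise

namespace K496.Disc

open Groth.Agent.Sga3B.RG Groth.Agent.Sga3B.Parab.BorelPts172 K495.ObsPt

variable {K : Type u} [Field K] [IsAlgClosed K] {A : Type u} [CommRing A] [HopfAlgebra K A]
  [Algebra.FiniteType K A]

/-- Finite unions of closed sets. -/
lemma isCl_biUnion {ι : Type*} (s : Finset ι) (X : ι → Set (Pt K A)) (h : ∀ i ∈ s, IsCl (X i)) :
    IsCl (⋃ i ∈ s, X i) := by
  classical
  induction s using Finset.induction_on with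
  | empty =>
    intro g hg
    have h1 := hg 1 (by
      intro x hx
      simp at hx)
    rw [Pt.apply_one] at h1
    exact absurd h1 one_ne_zero
  | insert a s _ ih =>
    rw [Finset.set_biUnion_insert]
    exact (h a (Finset.mem_insert_self a s)).union
      (ih fun i hi => h i (Finset.mem_insert_of_mem hi))

/-- The complement of a closed subgroup of finite index is closed. -/
lemma isCl_compl {N : Subgroup (Pt K A)} (hN : IsCl (N : Set (Pt K A))) [Finite (Pt K A ⧸ N)] :
    IsCl ((N : Set (Pt K A))ᶜ) := by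
  classical
  have := Fintype.ofFinite (Pt K A ⧸ N)
  have h1 : ((N : Set (Pt K A))ᶜ) = ⋃ q ∈ (Finset.univ.filter fun q : Pt K A ⧸ N => q ≠ ((1 : Pt K A) : Pt K A ⧸ N)),
      (q.out • (N : Set (Pt K A))) := by
    ext x
    simp only [Set.mem_compl_iff, SetLike.mem_coe, Finset.mem_filter, Finset.mem_univ, true_and,
      Set.mem_iUnion, exists_prop, Set.mem_smul_set_iff_inv_smul_mem, smul_eq_mul]
    constructor
    · intro hx
      refine ⟨(x : Pt K A ⧸ N), ?_, ?_⟩
      · intro h
        apply hx
        have h2 : ((1 : Pt K A) : Pt K A ⧸ N) = (x : Pt K A ⧸ N) := h.symm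
        rw [QuotientGroup.eq] at h2
        simpa using h2
      · rw [← QuotientGroup.eq]
        exact Quotient.out_eq _
    · rintro ⟨q, hq, hx⟩ hxN
      apply hq
      have h2 : (q.out : Pt K A)⁻¹ ∈ N := by
        have := N.mul_mem hx (N.inv_mem hxN)
        rwa [mul_inv_cancel_right] at this
      rw [← q.out_eq]
      have h3 : ((q.out : Pt K A) : Pt K A ⧸ N) = ((1 : Pt K A) : Pt K A ⧸ N) := by
        rw [QuotientGroup.eq, mul_one]
        exact h2
      exact h3
  rw [h1]
  exact isCl_biUnion _ _ fun q _ => hN.smul _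

variable [IsReduced A]

/-- **Reduction to a subgroup of finite index.** -/
theorem fg_rInv_of_finiteIndex {N : Subgroup (Pt K A)} (hN : IsCl (N : Set (Pt K A)))
    [Finite (Pt K A ⧸ N)] {U : Subgroup (Pt K A)} (hU : U ≤ N)
    (h : (rInv ((U.comap (quotMap (vanIdeal (N : Set (Pt K A)))) : Subgroup _) :
      Set (Pt K (A ⧸ vanIdeal (N : Set (Pt K A)))))).FG) : (rInv (U : Set (Pt K A))).FG := by
  classical
  have := Fintype.ofFinite (Pt K A ⧸ N)
  set I := vanIdeal (N : Set (Pt K A)) with hI
  obtain ⟨e, he1, he0⟩ := K495.ObsMore.exists_sep_of_disjoint hN (isCl_compl hN) disjoint_compl_right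
  obtain ⟨s, hs⟩ := h
  have hl : ∀ r : A ⧸ I, ∃ a : A, Ideal.Quotient.mk I a = r := Ideal.Quotient.mk_surjective
  choose L hL using hl
  -- elements supported on `N` depend only on their restriction
  have hsupp : ∀ a b : A, Ideal.Quotient.mk I a = Ideal.Quotient.mk I b → e * a = e * b := by
    intro a b hab
    rw [← sub_eq_zero, ← map_sub, Ideal.Quotient.eq_zero_iff_mem] at hab
    refine eq_of_forall_pt (K := K) fun x => ?_
    rw [Pt.apply_mul, Pt.apply_mul]
    by_cases hx : x ∈ N
    · have h1 := hab x hx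
      rw [Pt.apply_sub, sub_eq_zero] at h1
      rw [h1]
    · rw [he0 x hx, zero_mul, zero_mul]
  have hee : e * e = e := by
    refine eq_of_forall_pt (K := K) fun x => ?_
    rw [Pt.apply_mul]
    by_cases hx : x ∈ N
    · rw [he1 x hx, one_mul]
    · rw [he0 x hx, zero_mul]
  -- restriction of invariants
  have hres : ∀ a ∈ rInv (U : Set (Pt K A)), Ideal.Quotient.mk I a ∈
      rInv ((U.comap (quotMap I) : Subgroup _) : Set (Pt K (A ⧸ I))) := by
    intro a ha x y hy
    have h1 := ha (quotMap I x) (quotMap I y) hy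
    rwa [← map_mul, quotMap_apply, quotMap_apply] at h1
  have hext : ∀ a : A, Ideal.Quotient.mk I a ∈
      rInv ((U.comap (quotMap I) : Subgroup _) : Set (Pt K (A ⧸ I))) →
      e * a ∈ rInv (U : Set (Pt K A)) := by
    intro a ha x u hu
    rw [Pt.apply_mul, Pt.apply_mul]
    by_cases hx : x ∈ N
    · rw [he1 x hx, he1 _ (N.mul_mem hx (hU hu)), one_mul, one_mul]
      obtain ⟨x', rfl⟩ := exists_quotMap_eq hN hx
      obtain ⟨u', rfl⟩ := exists_quotMap_eq hN (hU hu)
      have h1 := ha x' u' hu
      rwa [← quotMap_apply, ← quotMap_apply, map_mul] at h1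
    · have hxu : x * u ∉ N := fun h => hx (by
        have := N.mul_mem h (N.inv_mem (hU hu))
        rwa [mul_inv_cancel_right] at this)
      rw [he0 x hx, he0 _ hxu, zero_mul, zero_mul]
  -- the generators
  let g : Finset A := insert e (s.image fun r => e * L r)
  let t : Finset A := (Finset.univ : Finset (Pt K A ⧸ N)).biUnion fun q => g.image (lTr q.out)
  have hS : ∀ r ∈ Algebra.adjoin K (s : Set (A ⧸ I)), ∀ a : A, Ideal.Quotient.mk I a = r →
      e * a ∈ Algebra.adjoin K (g : Set A) := by
    have heg : e ∈ Algebra.adjoin K (g : Set A) :=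
      Algebra.subset_adjoin (Finset.mem_coe.2 (Finset.mem_insert_self _ _))
    intro r hr
    induction hr using Algebra.adjoin_induction with
    | mem r hr =>
      intro a ha
      rw [hsupp a (L r) (by rw [ha, hL])]
      exact Algebra.subset_adjoin (Finset.mem_coe.2 (Finset.mem_insert_of_mem
        (Finset.mem_image_of_mem _ hr)))
    | algebraMap c =>
      intro a ha
      rw [hsupp a (algebraMap K A c) (by rw [ha]; rfl)]
      exact Subalgebra.mul_mem _ heg (Subalgebra.algebraMap_mem _ c)
    | add r r' _ _ ih ih' =>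
      intro a ha
      rw [hsupp a (L r + L r') (by rw [ha, map_add, hL, hL]), mul_add]
      exact Subalgebra.add_mem _ (ih _ (hL r)) (ih' _ (hL r'))
    | mul r r' _ _ ih ih' =>
      intro a ha
      rw [hsupp a (L r * L r') (by rw [ha, map_mul, hL, hL])]
      have h1 : e * (L r * L r') = (e * L r) * (e * L r') := by
        calc e * (L r * L r') = (e * e) * (L r * L r') := by rw [hee]
          _ = _ := by ring
      rw [h1]
      exact Subalgebra.mul_mem _ (ih _ (hL r)) (ih' _ (hL r'))
  refine ⟨t, le_antisymm ?_ ?_⟩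
  · rw [Algebra.adjoin_le_iff]
    intro a ha
    rw [Finset.mem_coe, Finset.mem_biUnion] at ha
    obtain ⟨q, -, ha⟩ := ha
    obtain ⟨b, hb, rfl⟩ := Finset.mem_image.1 ha
    apply lTr_mem_rInv
    rcases Finset.mem_insert.1 hb with rfl | hb
    · have h1 := hext 1 (by rw [map_one]; exact Subalgebra.one_mem _)
      rwa [mul_one] at h1
    · obtain ⟨r, hr, rfl⟩ := Finset.mem_image.1 hb
      apply hext
      rw [hL, ← hs]
      exact Algebra.subset_adjoin hr
  · intro f hf
    have h1 : f = ∑ q : Pt K A ⧸ N, lTr q.out (e * lTr (q.out)⁻¹ f) := by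
      refine eq_of_forall_pt (K := K) fun x => ?_
      rw [Pt.apply_sum, Finset.sum_eq_single (x : Pt K A ⧸ N)]
      · rw [lTr_apply_pt, Pt.apply_mul, lTr_apply_pt, inv_inv, mul_inv_cancel_left, he1, one_mul]
        rw [SetLike.mem_coe, ← QuotientGroup.eq]
        exact Quotient.out_eq _
      · intro q _ hq
        rw [lTr_apply_pt, Pt.apply_mul, he0, zero_mul]
        intro hx
        apply hq
        rw [← q.out_eq]
        exact QuotientGroup.eq.2 hx
      · intro h; exact absurd (Finset.mem_univ _) h
    rw [h1]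
    refine Subalgebra.sum_mem _ fun q _ => ?_
    have h2 : e * lTr (q.out)⁻¹ f ∈ Algebra.adjoin K (g : Set A) := by
      refine hS _ ?_ _ rfl
      rw [hs]
      exact hres _ (lTr_mem_rInv hf _)
    have h3 : (Algebra.adjoin K (g : Set A)).map (lTr q.out) ≤ Algebra.adjoin K (t : Set A) := by
      rw [AlgHom.map_adjoin]
      apply Algebra.adjoin_mono
      rintro _ ⟨b, hb, rfl⟩
      rw [Finset.mem_coe, Finset.mem_biUnion]
      exact ⟨q, Finset.mem_univ _, Finset.mem_image_of_mem _ hb⟩
    exact h3 ⟨_, h2, rfl⟩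

/-- **Maximal unipotent subgroups are Grosshans subgroups**, on points, for arbitrary affine
groups. -/
theorem fg_rInv {B U : Subgroup (Pt K A)} (hB : IsBorelPt B) (hU : ∀ g, g ∈ U ↔ g ∈ B ∧ IsUnip g) :
    (rInv (U : Set (Pt K A))).FG := by
  let N : Subgroup (Pt K A) := idComp ⊤
  have hN : IsCl (N : Set (Pt K A)) := isCl_idComp _
  have hBN : B ≤ N := le_idComp hB.isConn le_top
  have hfin : Finite (Pt K A ⧸ N) := by
    have h1 := relIndex_idComp_ne_zero (K := K) (A := A) (H := ⊤) (by
      rw [Subgroup.coe_top]; exact isCl_univ)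
    rw [Subgroup.relIndex_top_right] at h1
    exact Subgroup.index_ne_zero_iff_finite.1 h1
  have hdom : IsDomain (A ⧸ vanIdeal (N : Set (Pt K A))) :=
    (Ideal.Quotient.isDomain_iff_prime _).2 (isConn_idComp _)
  refine fg_rInv_of_finiteIndex hN (fun g hg => hBN ((hU g).1 hg).1) ?_
  let φ := Bialgebra.Quotient.mkBialgHom (R := K) (vanIdeal (N : Set (Pt K A)))
  have hφ : Function.Surjective φ := Ideal.Quotient.mk_surjective
  have hrange : (Pt.map φ).range = N := range_quotMap_vanIdeal N hN
  have hm : (B.comap (Pt.map φ)).map (Pt.map φ) = B := by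
    rw [Subgroup.map_comap_eq, hrange, inf_eq_right]
    exact hBN
  have hB' : IsBorelPt (B.comap (Pt.map φ)) := PbShape.isBorelPt_of_map hφ (by rwa [hm])
  have h1 := K496.GrossPt.fg_rInv hB'
  have h2 : K496.GrossPt.rInv (B.comap (Pt.map φ)) =
      rInv ((U.comap (quotMap (vanIdeal (N : Set (Pt K A)))) : Subgroup _) :
      Set (Pt K (A ⧸ vanIdeal (N : Set (Pt K A))))) := by
    ext a
    rw [K496.GrossPt.mem_rInv, mem_rInv]
    refine forall_congr' fun x => ?_
    constructor
    · intro h u hu
      obtain ⟨hu1, hu2⟩ := (hU _).1 hu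
      exact h u hu1 ((isUnip_map_iff hφ).1 hu2)
    · intro h u hu1 hu2
      exact h u ((hU _).2 ⟨hu1, (isUnip_map_iff hφ).2 hu2⟩)
  rw [← h2]
  exact h1

end K496.Disc
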