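import Groth.Agent.AGF.K495.Bridge2

/-!
# Finite generation of subrings of global functions over the constants, in terms of Hopf algebras
-/

set_option autoImplicit false
set_option linter.unusedSectionVars false

universe u

open CategoryTheory MonoidalCategory CartesianMonoidalCategory MonObj GrpObj AlgebraicGeometry
open scoped TensorProduct

namespace K496.FGBridge

open Groth.Agent.Books.AffBridge Groth.Agent.Books.AffBridge2
open Groth.Agent.Sga3B.RG Groth.Agent.Sga3B.RG.BrPts K495.ObsPt K495.Bridge

variable {k : Type u} [Field k] {A : Type u} [CommRing A] [Algebra k A]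
  {G : Over (Spec (CommRingCat.of k))} (e : G ≅ SpecOver k A)

/-- Constants. -/
lemma fn_const (c : k) :
    fn e (G.hom.appTop ((Scheme.ΓSpecIso (CommRingCat.of k)).inv c)) = algebraMap k A c := by
  rw [fn_apply]
  have h1 : e.inv.left ≫ G.hom = Spec.map (CommRingCat.ofHom (algebraMap k A)) := Over.w e.inv
  have h2 : G.hom.appTop ≫ e.inv.left.appTop =
      (Spec.map (CommRingCat.ofHom (algebraMap k A))).appTop := by
    rw [← Scheme.Hom.comp_appTop, h1]
  have h3 : e.inv.left.appTop (G.hom.appTop ((Scheme.ΓSpecIso (CommRingCat.of k)).inv c)) =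
      (Spec.map (CommRingCat.ofHom (algebraMap k A))).appTop
        ((Scheme.ΓSpecIso (CommRingCat.of k)).inv c) :=
    congrArg (fun F => F ((Scheme.ΓSpecIso (CommRingCat.of k)).inv c)) h2
  rw [h3]
  have h4 := Scheme.ΓSpecIso_inv_naturality (CommRingCat.ofHom (algebraMap k A))
  have h5 : (Spec.map (CommRingCat.ofHom (algebraMap k A))).appTop
      ((Scheme.ΓSpecIso (CommRingCat.of k)).inv c) =
      (Scheme.ΓSpecIso (CommRingCat.of A)).inv (algebraMap k A c) :=
    (congrArg (fun F : CommRingCat.of k ⟶ Γ(Spec (CommRingCat.of A), ⊤) => F c) h4).symm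
  rw [h5]
  exact congrArg (fun F : CommRingCat.of A ⟶ CommRingCat.of A => F (algebraMap k A c))
    (Scheme.ΓSpecIso (CommRingCat.of A)).inv_hom_id

/-- Finite generation over the constants. -/
theorem subringFGOver_iff_of {R : Subring Γ(G.left, ⊤)} {R' : Subalgebra k A}
    (h : ∀ f, f ∈ R ↔ fn e f ∈ R') : AGF.SubringFGOver k G R ↔ R'.FG := by
  classical
  have himg : ∀ s : Set Γ(G.left, ⊤),
      (Subring.closure (Set.range (fun c : k => G.hom.appTop
        ((Scheme.ΓSpecIso (CommRingCat.of k)).inv c)) ∪ s)).map (fn e : Γ(G.left, ⊤) →+* A) =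
      (Algebra.adjoin k ((fn e) '' s)).toSubring := by
    intro s
    rw [RingHom.map_closure, Set.image_union, Algebra.adjoin_eq_ring_closure]
    congr 2
    ext a
    constructor
    · rintro ⟨_, ⟨c, rfl⟩, rfl⟩
      exact ⟨c, (fn_const e c).symm⟩
    · rintro ⟨c, rfl⟩
      exact ⟨_, ⟨c, rfl⟩, fn_const e c⟩
  constructor
  · rintro ⟨s, hs, hR⟩
    refine ⟨s.image (fn e), le_antisymm ?_ ?_⟩
    · rw [Algebra.adjoin_le_iff, Finset.coe_image]
      rintro _ ⟨f, hf, rfl⟩
      exact (h f).1 (hs hf)
    · intro a ha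
      have h1 : (fn e).symm a ∈ R := by
        rw [h, RingEquiv.apply_symm_apply]
        exact ha
      have h2 : a ∈ (Subring.closure (Set.range (fun c : k => G.hom.appTop
          ((Scheme.ΓSpecIso (CommRingCat.of k)).inv c)) ∪ s)).map
            (fn e : Γ(G.left, ⊤) →+* A) :=
        ⟨_, hR h1, (fn e).apply_symm_apply a⟩
      rw [himg] at h2
      rw [Finset.coe_image]
      exact h2
  · rintro ⟨s, hs⟩
    refine ⟨s.image (fn e).symm, ?_, fun f hf => ?_⟩
    · rw [Finset.coe_image]
      rintro _ ⟨a, ha, rfl⟩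
      rw [SetLike.mem_coe, h, RingEquiv.apply_symm_apply, ← hs]
      exact Algebra.subset_adjoin ha
    · have h1 : fn e f ∈ (Algebra.adjoin k
          ((fn e) '' ((s.image (fn e).symm : Finset Γ(G.left, ⊤)) : Set Γ(G.left, ⊤)))).toSubring := by
        have h2 : (fn e) '' ((s.image (fn e).symm : Finset Γ(G.left, ⊤)) :
            Set Γ(G.left, ⊤)) = (s : Set A) := by
          rw [Finset.coe_image, ← Set.image_comp]
          simp
        rw [h2, hs]
        exact (h f).1 hf
      rw [← himg] at h1
      obtain ⟨f', hf', hff⟩ := h1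
      have h3 : f' = f := (fn e).injective hff
      rw [← h3]
      exact hf'

end K496.FGBridge
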