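import Groth.Agent.AGF.K497.GM
import Groth.Agent.AGF.K497.PowLift
import Groth.Agent.AGF.K495.OpenSub
import Groth.Agent.Sga3B.RG.BrHc

/-!
# Geometric reductivity: subgroups of finite index, and power lifting for group schemes

* `geomRed_of_finiteIndex`: geometric reductivity of a subgroup of finite index implies that of the group;
* `geomRed_of_open`: the same for an open subgroup scheme;
* `geomRed_of_connected`: from connected reductive groups to groups with reductive identity component;
* `exists_pow_sub_mem`: power lifting of invariants modulo a stable ideal, from `GeomRed`.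
-/

set_option autoImplicit false
set_option linter.unusedSectionVars false

universe u v

open CategoryTheory MonoidalCategory CartesianMonoidalCategory MonObj GrpObj AlgebraicGeometry
open scoped TensorProduct

namespace K496.FinIdx

open Groth.Agent.Books.AffBridge Groth.Agent.Books.AffBridge2
open Groth.Agent.Sga3B.RG Groth.Agent.Sga3B.RG.BrPts K495.ObsPt K495.Bridge K495.GModPt K497.Rat K497.GM
open Polynomial

noncomputable section

section pts

variable {K : Type u} [Field K] {A : Type u} [CommRing A] [HopfAlgebra K A]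
variable {B : Type u} [CommRing B] [HopfAlgebra K B]

/-- Geometric reductivity of a subgroup of finite index implies that of the group. -/
theorem geomRed_of_finiteIndex (φ : A →ₐc[K] B) (hN : (Pt.map φ).range.index ≠ 0) (h : GeomRed K B) :
    GeomRed K A := by
  classical
  intro V _ _ _ ρ hρ f hf hf0
  have hfin : Finite (Pt K A ⧸ (Pt.map φ).range) := Subgroup.index_ne_zero_iff_finite.1 hN
  have := Fintype.ofFinite (Pt K A ⧸ (Pt.map φ).range)
  have hB : IsAlg (ρ.comp (Pt.map φ)) := ((isRat_of_isAlg hρ).comp_map φ).isAlg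
  obtain ⟨n, hn, F, hF, hF'⟩ := h V (ρ.comp (Pt.map φ)) hB f (fun g v => hf _ v) hf0
  have hF1 : ∀ g ∈ (Pt.map φ).range, symAct ρ g F = F := by
    rintro _ ⟨b, rfl⟩
    exact hF b
  have hF2 : ∀ g g' : Pt K A, (QuotientGroup.mk g : Pt K A ⧸ (Pt.map φ).range) = QuotientGroup.mk g' →
      symAct ρ g F = symAct ρ g' F := by
    intro g g' hgg
    have h1 := hF1 _ (QuotientGroup.eq.1 hgg)
    have h2 : symAct ρ g (symAct ρ (g⁻¹ * g') F) = symAct ρ g F := by rw [h1]
    rw [← K497.Rat.act_mul, mul_inv_cancel_left] at h2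
    exact h2.symm
  let P : (Pt K A ⧸ (Pt.map φ).range) → SymmetricAlgebra K V := fun q => symAct ρ q.out F
  refine ⟨n * Fintype.card (Pt K A ⧸ (Pt.map φ).range), Nat.mul_pos hn Fintype.card_pos, ∏ q, P q, fun g => ?_, ?_⟩
  · rw [map_prod]
    have h1 : ∀ q, symAct ρ g (P q) = P (g • q) := by
      intro q
      change symAct ρ g (symAct ρ q.out F) = symAct ρ (g • q).out F
      rw [← K497.Rat.act_mul]
      apply hF2
      refine Eq.trans ?_ (Quotient.out_eq' (g • q)).symm
      conv_rhs => rw [← Quotient.out_eq' q]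
      rfl
    rw [Finset.prod_congr rfl fun q _ => h1 q]
    exact Fintype.prod_equiv (MulAction.toPerm g) _ _ fun q => rfl
  · rw [map_prod]
    have h1 : ∀ q, symTo f (P q) = X ^ n := by
      intro q
      change symTo f (symAct ρ q.out F) = X ^ n
      rw [symTo_symAct hf, hF']
    rw [Finset.prod_congr rfl fun q _ => h1 q, Finset.prod_const, Finset.card_univ, ← pow_mul]

end pts

section sch

variable {k : Type u} [Field k] [IsAlgClosed k] {A : Type u} [CommRing A] [HopfAlgebra k A]
  [Algebra.FiniteType k A] [_root_.IsReduced A]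
  {G : Over (Spec (CommRingCat.of k))} [GrpObj G] (e : G ≅ SpecOver k A) [IsMonHom e.hom]
  {G₀ : Over (Spec (CommRingCat.of k))} [GrpObj G₀] (j : G₀ ⟶ G) [IsMonHom j]

include e in
/-- Geometric reductivity of an open subgroup scheme implies that of the group. -/
theorem geomRed_of_open [IsAffine G.left] [Smooth G.hom] [IsOpenImmersion j.left]
    (h : ∀ (C : Type u) [CommRing C] [HopfAlgebra k C] (e' : G₀ ≅ SpecOver k C), IsMonHom e'.hom →
      Algebra.FiniteType k C → GeomRed k C) : GeomRed k A := by
  have h1 := K495.OpenSub.isClosedImmersion_of_open j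
  have h2 : Smooth G₀.hom := K495.OpenSub.smooth_of_open j
  obtain ⟨C, _, _, e', he', φ, hft, hC, hφ, hi⟩ := exists_hom_data e j
  have h3 := K495.OpenSub.index_ne_zero (K495.OpenSub.isCl_compl_psub e j)
  rw [psub_eq_range e j e' φ hi] at h3
  exact geomRed_of_finiteIndex φ h3 (h C e' he' hft)

include e in
/-- From connected reductive groups to groups with reductive identity component. -/
theorem geomRed_of_connected
    (H : ∀ (C : Type u) [CommRing C] [HopfAlgebra k C] [Algebra.FiniteType k C] [IsDomain C],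
      IsRedPt k C → GeomRed k C) (hG : VecGrp.IsReductiveGrp k G) : GeomRed k A := by
  obtain ⟨haff, hsm, G₀, _, j, hj, hjo, hred⟩ := hG
  refine geomRed_of_open e j fun C _ _ e' he' hft => ?_
  obtain ⟨h1, h2⟩ := BrRed2.isReductiveOver_iff.1 (BrRed2.isReductiveOver_of_iso e' hred)
  exact H C h2

include e in
/-- Power lifting of invariants modulo a stable ideal. -/
theorem exists_pow_sub_mem (hA : GeomRed k A)
    {H : Over (Spec (CommRingCat.of k))} [GrpObj H] [Smooth H.hom] (i : H ⟶ G) [IsMonHom i]
    [IsAffine G.left] [Smooth G.hom] [IsClosedImmersion i.left]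
    {R : Type u} [CommRing R] [Algebra k R] (ρ : VecGrp.GMod G R) (hρ : ρ.IsMult)
    (J : Ideal R) (hJ : ρ.IsStable (𝟙 G) (J.restrictScalars k)) (f : R)
    (hf : ∀ (B : Type u) [CommRing B] [Algebra k B] (h : VecGrp.pt k B ⟶ H),
      ρ.ρ B (h ≫ i) ((1 : B) ⊗ₜ[k] f) - (1 : B) ⊗ₜ[k] f ∈ (J.restrictScalars k).baseChange B) :
    ∃ t : ℕ, 0 < t ∧ ∃ F ∈ ρ.fixedSubalgebra hρ i, f ^ t - F ∈ J := by
  have h1 : ∀ p ∈ psub e i, act e ρ hρ p f - f ∈ J := by
    rintro _ ⟨g, rfl⟩
    have h2 := hf k g
    rw [ρ_k e, ← TensorProduct.tmul_sub] at h2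
    exact mem_baseChange_k.1 h2
  obtain ⟨n, hn, y, hy, hyJ⟩ := hA.lift_sub (isRatA_act e ρ hρ) J
    (fun p x hx => stable_of_isStable_id e ρ hJ p x hx) (psub e i) h1
  refine ⟨n, hn, y, ?_, hyJ⟩
  have haff : IsAffine H.left := isAffine_of_isAffineHom i.left
  change y ∈ ρ.fixedUnder i
  rw [mem_fixedUnder_iff_psub e i ρ]
  exact hy

end sch

end

end K496.FinIdx
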