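import Mathlib.RingTheory.FiniteType
import Mathlib.RingTheory.Adjoin.Tower
import Mathlib.RingTheory.IntegralClosure.IsIntegralClosure.Basic
import Mathlib.RingTheory.FiniteStability
import Mathlib.RingTheory.Noetherian.Basic

/-!
# Finite generation from the algebra of leading terms

`A`, `R` commutative algebras over `k`, `φ n : A → R` linear maps (`n : ℤ`), `F n = {x | φ i x = 0 for all i > n}`.
When `φ (n + m) (x * y) = φ n x * φ m y` for `x ∈ F n`, `y ∈ F m`, the span `S` of the leading terms `φ n x`, `x ∈ F n`,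
is a subalgebra of `R`; if it is finitely generated and the filtration is exhaustive and vanishes in negative degrees
then `A` is finitely generated.
-/

set_option autoImplicit false

namespace K496.GrFG

variable {k : Type*} [CommRing k] {A : Type*} [CommRing A] [Algebra k A] {R : Type*} [CommRing R] [Algebra k R]

/-- The filtration. -/
def F (φ : ℤ → A →ₗ[k] R) (n : ℤ) : Submodule k A where
  carrier := {x | ∀ i, n < i → φ i x = 0}
  add_mem' hx hy i hi := by rw [map_add, hx i hi, hy i hi, add_zero]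
  zero_mem' i _ := map_zero _
  smul_mem' c x hx i hi := by rw [map_smul, hx i hi, smul_zero]

lemma mem_F {φ : ℤ → A →ₗ[k] R} {n : ℤ} {x : A} : x ∈ F φ n ↔ ∀ i, n < i → φ i x = 0 := Iff.rfl

lemma F_mono (φ : ℤ → A →ₗ[k] R) {n m : ℤ} (h : n ≤ m) : F φ n ≤ F φ m := fun _ hx i hi => hx i (by omega)

/-- Elements of `F n` with vanishing leading term are in `F (n - 1)`. -/
lemma mem_F_sub_one {φ : ℤ → A →ₗ[k] R} {n : ℤ} {x : A} (hx : x ∈ F φ n) (h0 : φ n x = 0) : x ∈ F φ (n - 1) := by
  intro i hi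
  rcases eq_or_lt_of_le (show n ≤ i by omega) with rfl | h
  · exact h0
  · exact hx i h

/-- The hypotheses. -/
structure IsLead (φ : ℤ → A →ₗ[k] R) : Prop where
  one_mem : (1 : A) ∈ F φ 0
  map_one : φ 0 1 = 1
  mul_mem : ∀ {n m : ℤ} {x y : A}, x ∈ F φ n → y ∈ F φ m → x * y ∈ F φ (n + m)
  map_mul : ∀ {n m : ℤ} {x y : A}, x ∈ F φ n → y ∈ F φ m → φ (n + m) (x * y) = φ n x * φ m y

section Lead

variable {φ : ℤ → A →ₗ[k] R} (h : IsLead φ)

/-- The span of the leading terms of the elements of a submodule. -/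
def leadSpan (φ : ℤ → A →ₗ[k] R) (B : Submodule k A) : Submodule k R :=
  ⨆ n : ℤ, (B ⊓ F φ n).map (φ n)

lemma mem_leadSpan {B : Submodule k A} {n : ℤ} {x : A} (hB : x ∈ B) (hx : x ∈ F φ n) : φ n x ∈ leadSpan φ B :=
  Submodule.mem_iSup_of_mem n ⟨x, ⟨hB, hx⟩, rfl⟩

lemma leadSpan_le {B : Submodule k A} {M : Submodule k R} (hM : ∀ n, ∀ x ∈ B, x ∈ F φ n → φ n x ∈ M) :
    leadSpan φ B ≤ M := by
  refine iSup_le fun n => ?_
  rintro _ ⟨x, ⟨hB, hx⟩, rfl⟩
  exact hM n x hB hx

include h in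
lemma leadSpan_mul (B : Subalgebra k A) {s t : R} (hs : s ∈ leadSpan φ (Subalgebra.toSubmodule B))
    (ht : t ∈ leadSpan φ (Subalgebra.toSubmodule B)) : s * t ∈ leadSpan φ (Subalgebra.toSubmodule B) := by
  have h1 : leadSpan φ (Subalgebra.toSubmodule B) ≤
      (leadSpan φ (Subalgebra.toSubmodule B)).comap (LinearMap.mulRight k t) := by
    refine leadSpan_le fun n x hB hx => ?_
    change φ n x * t ∈ leadSpan φ (Subalgebra.toSubmodule B)
    have h2 : leadSpan φ (Subalgebra.toSubmodule B) ≤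
        (leadSpan φ (Subalgebra.toSubmodule B)).comap (LinearMap.mulLeft k (φ n x)) := by
      refine leadSpan_le fun m y hB' hy => ?_
      change φ n x * φ m y ∈ leadSpan φ (Subalgebra.toSubmodule B)
      rw [← h.map_mul hx hy]
      exact mem_leadSpan (B.mul_mem hB hB') (h.mul_mem hx hy)
    exact h2 ht
  exact h1 hs

/-- The algebra of leading terms of a subalgebra. -/
def leadSub (B : Subalgebra k A) : Subalgebra k R :=
  (leadSpan φ (Subalgebra.toSubmodule B)).toSubalgebra
    (by rw [← h.map_one]; exact mem_leadSpan B.one_mem h.one_mem)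
    (fun _ _ hs ht => leadSpan_mul h B hs ht)

lemma mem_leadSub {B : Subalgebra k A} {s : R} : s ∈ leadSub h B ↔ s ∈ leadSpan φ (Subalgebra.toSubmodule B) :=
  Iff.rfl

lemma map_mem_leadSub {B : Subalgebra k A} {n : ℤ} {x : A} (hB : x ∈ B) (hx : x ∈ F φ n) : φ n x ∈ leadSub h B :=
  mem_leadSpan hB hx

lemma leadSub_le {B : Subalgebra k A} {S : Subalgebra k R} (hS : ∀ n, ∀ x ∈ B, x ∈ F φ n → φ n x ∈ S) :
    leadSub h B ≤ S :=
  leadSpan_le (M := Subalgebra.toSubmodule S) hS

/-- If the leading terms of the subalgebra `B` are all the leading terms, then `B` is everything. -/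
theorem eq_top_of_leadSub_le {B : Subalgebra k A} (hle : leadSub h ⊤ ≤ leadSub h B)
    (hex : ∀ x : A, ∃ n, x ∈ F φ n) (hneg : ∀ n < 0, ∀ x ∈ F φ n, x = 0)
    (π : ℤ → R →ₗ[k] R) (hπ : ∀ n x, x ∈ F φ n → π n (φ n x) = φ n x)
    (hπ' : ∀ n m x, n ≠ m → x ∈ F φ m → π n (φ m x) = 0) : B = ⊤ := by
  have key : ∀ N : ℕ, ∀ x ∈ F φ (N - 1), x ∈ B := by
    intro N
    induction N with
    | zero =>
      intro x hx
      rw [hneg _ (by omega) x hx]
      exact B.zero_mem
    | succ N ih =>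
      intro x hx
      have hx' : x ∈ F φ (N : ℤ) := by
        have : ((N + 1 : ℕ) : ℤ) - 1 = N := by push_cast; ring
        rwa [this] at hx
      have h1 : φ N x ∈ leadSpan φ (Subalgebra.toSubmodule B) := hle (map_mem_leadSub h trivial hx')
      have h2 : leadSpan φ (Subalgebra.toSubmodule B) ≤
          (((Subalgebra.toSubmodule B) ⊓ F φ (N : ℤ)).map (φ N)).comap (π N) := by
        refine leadSpan_le fun m y hB hy => ?_
        change π N (φ m y) ∈ ((Subalgebra.toSubmodule B) ⊓ F φ (N : ℤ)).map (φ N)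
        by_cases hm : (N : ℤ) = m
        · subst hm
          rw [hπ _ _ hy]
          exact ⟨y, ⟨hB, hy⟩, rfl⟩
        · rw [hπ' _ _ _ hm hy]
          exact Submodule.zero_mem _
      have h3 : π N (φ N x) ∈ ((Subalgebra.toSubmodule B) ⊓ F φ (N : ℤ)).map (φ N) := h2 h1
      rw [hπ _ _ hx'] at h3
      obtain ⟨b, ⟨hbB, hbF⟩, hb⟩ := h3
      have h4 : x - b ∈ F φ ((N : ℤ) - 1) :=
        mem_F_sub_one ((F φ _).sub_mem hx' hbF) (by rw [map_sub, hb, sub_self])
      have h5 := ih _ h4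
      have h6 := B.add_mem h5 hbB
      rwa [sub_add_cancel] at h6
  rw [eq_top_iff]
  intro x _
  obtain ⟨n, hn⟩ := hex x
  refine key (n + 1).toNat x (F_mono φ ?_ hn)
  omega

/-- **Finite generation from leading terms.** -/
theorem finiteType_of_leadSub_fg (hfg : (leadSub h ⊤).FG)
    (hex : ∀ x : A, ∃ n, x ∈ F φ n) (hneg : ∀ n < 0, ∀ x ∈ F φ n, x = 0)
    (π : ℤ → R →ₗ[k] R) (hπ : ∀ n x, x ∈ F φ n → π n (φ n x) = φ n x)
    (hπ' : ∀ n m x, n ≠ m → x ∈ F φ m → π n (φ m x) = 0) : Algebra.FiniteType k A := by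
  classical
  -- every leading-term element is in the algebra of leading terms of a finitely generated subalgebra
  have h1 : ∀ s ∈ leadSub h ⊤, ∃ t : Finset A, s ∈ leadSub h (Algebra.adjoin k (t : Set A)) := by
    intro s hs
    rw [mem_leadSub, leadSpan] at hs
    induction hs using Submodule.iSup_induction' with
    | mem n s hs =>
      obtain ⟨x, ⟨-, hx⟩, rfl⟩ := hs
      exact ⟨{x}, map_mem_leadSub h (Algebra.subset_adjoin (by simp)) hx⟩
    | zero => exact ⟨∅, Subalgebra.zero_mem _⟩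
    | add a b _ _ ha hb =>
      obtain ⟨t, ht⟩ := ha
      obtain ⟨t', ht'⟩ := hb
      have hmono : ∀ {B B' : Subalgebra k A}, B ≤ B' → leadSub h B ≤ leadSub h B' := fun hBB =>
        leadSub_le h fun n x hB hx => map_mem_leadSub h (hBB hB) hx
      refine ⟨t ∪ t', Subalgebra.add_mem _ (hmono (Algebra.adjoin_mono ?_) ht)
        (hmono (Algebra.adjoin_mono ?_) ht')⟩
      · simp
      · simp
  obtain ⟨s, hs⟩ := hfg
  have hs1 : ∀ a ∈ s, a ∈ leadSub h ⊤ := fun a ha => by rw [← hs]; exact Algebra.subset_adjoin ha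
  choose! t ht using h1
  have hmono : ∀ {B B' : Subalgebra k A}, B ≤ B' → leadSub h B ≤ leadSub h B' := fun hBB =>
    leadSub_le h fun n x hB hx => map_mem_leadSub h (hBB hB) hx
  have h2 : leadSub h ⊤ ≤ leadSub h (Algebra.adjoin k ((s.biUnion t : Finset A) : Set A)) := by
    conv_lhs => rw [← hs]
    refine Algebra.adjoin_le fun a ha => ?_
    refine hmono (Algebra.adjoin_mono ?_) (ht a (hs1 a ha))
    intro x hx
    rw [Finset.mem_coe, Finset.mem_biUnion]
    exact ⟨a, ha, hx⟩
  exact ⟨⟨_, eq_top_of_leadSub_le h h2 hex hneg π hπ hπ'⟩⟩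

end Lead

/-- Artin–Tate for subalgebras: a subalgebra over which a finitely generated algebra is integral is finitely
generated. -/
theorem fg_of_isIntegral [IsNoetherianRing k] {E : Type*} [CommRing E] [Algebra k E] [hE : Algebra.FiniteType k E]
    (S : Subalgebra k E) (hint : ∀ r : E, IsIntegral S r) : S.FG := by
  have h1 : Algebra.FiniteType S E := Algebra.FiniteType.of_restrictScalars_finiteType k S E
  have h2 : Algebra.IsIntegral S E := ⟨hint⟩
  have h3 : Module.Finite S E := Algebra.IsIntegral.finite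
  have h4 : (⊤ : Subalgebra k S).FG := fg_of_fg_of_fg k S E hE.1 h3.1 (Subtype.val_injective)
  exact (Subalgebra.fg_iff_finiteType S).2 ⟨h4⟩

section Main

variable {φ : ℤ → A →ₗ[k] R} (h : IsLead φ)

/-- **Finite generation from integrality over the leading terms.**  `E` is a finitely generated subalgebra of `R`
containing the leading terms and integral over their algebra. -/
theorem finiteType_of_isIntegral [IsNoetherianRing k] (E : Subalgebra k R) (hE : E.FG)
    (hle : ∀ n x, x ∈ F φ n → φ n x ∈ E)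
    (hint : ∀ r : E, IsIntegral ((leadSub h ⊤).comap E.val) r)
    (hex : ∀ x : A, ∃ n, x ∈ F φ n) (hneg : ∀ n < 0, ∀ x ∈ F φ n, x = 0)
    (π : ℤ → R →ₗ[k] R) (hπ : ∀ n x, x ∈ F φ n → π n (φ n x) = φ n x)
    (hπ' : ∀ n m x, n ≠ m → x ∈ F φ m → π n (φ m x) = 0) : Algebra.FiniteType k A := by
  have hE' : Algebra.FiniteType k E := (Subalgebra.fg_iff_finiteType E).1 hE
  have h1 : ((leadSub h ⊤).comap E.val).FG := fg_of_isIntegral _ hint
  have h2 : ((leadSub h ⊤).comap E.val).map E.val = leadSub h ⊤ := by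
    apply le_antisymm
    · rintro _ ⟨x, hx, rfl⟩
      exact hx
    · intro s hs
      have h3 : s ∈ E := leadSub_le h (fun n x _ hx => hle n x hx) hs
      exact ⟨⟨s, h3⟩, hs, rfl⟩
  refine finiteType_of_leadSub_fg h ?_ hex hneg π hπ hπ'
  rw [← h2]
  exact h1.map _

end Main

end K496.GrFG
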