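import Groth.Agent.VarietyB.FinNormField
import Groth.Agent.Flat2E.FinSepClosure

/-!
# Integral extensions inside a finitely generated domain

`A` a domain of finite type over a field `K`, `S' ≤ S` subalgebras of `A` with `S'` finitely
generated and `S` integral over `S'`.  Then `S` is finitely generated.
-/

set_option autoImplicit false

universe u

namespace K496.IntFG

variable {K : Type u} [Field K] {A : Type u} [CommRing A] [IsDomain A] [Algebra K A]
  [Algebra.FiniteType K A]

/-- Finite generation passes from a finitely generated subalgebra to integral extensions of it, in a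
domain of finite type. -/
theorem fg_of_isIntegral {S' S : Subalgebra K A} (hS' : S'.FG) (hle : S' ≤ S)
    (hint : ∀ s ∈ S, IsIntegral S' s) : S.FG := by
  let Ω := FractionRing A
  have hft : Algebra.FiniteType K S' := (Subalgebra.fg_iff_finiteType _).1 hS'
  let κ := FractionRing S'
  have hinj : Function.Injective (algebraMap S' Ω) :=
    (IsFractionRing.injective A Ω).comp Subtype.val_injective
  have : IsScalarTower S' A Ω := inferInstance
  let : Algebra κ Ω := (IsFractionRing.lift (K := κ) hinj).toAlgebra
  have : IsScalarTower S' κ Ω :=
    .of_algebraMap_eq fun r => (IsFractionRing.lift_algebraMap hinj r).symm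
  have : IsScalarTower K S' Ω := inferInstance
  have : IsScalarTower K κ Ω := by
    refine .of_algebraMap_eq fun r => ?_
    rw [IsScalarTower.algebraMap_apply K S' κ, ← IsScalarTower.algebraMap_apply S' κ Ω,
      ← IsScalarTower.algebraMap_apply K S' Ω]
  have hess : Algebra.EssFiniteType K Ω := Algebra.EssFiniteType.comp K A Ω
  have hess' : Algebra.EssFiniteType κ Ω := .of_comp K κ Ω
  let L := algebraicClosure κ Ω
  have hfin : FiniteDimensional κ L :=
    Groth.Agent.Flat2E.FinSepClosure.finiteDimensional_of_isAlgebraic _
  let : Algebra S' L := ((algebraMap κ L).comp (algebraMap S' κ)).toAlgebra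
  have : IsScalarTower S' κ L := .of_algebraMap_eq fun _ => rfl
  have : IsScalarTower S' L Ω := by
    refine .of_algebraMap_eq fun x => ?_
    rw [IsScalarTower.algebraMap_apply S' κ L, ← IsScalarTower.algebraMap_apply κ L Ω,
      ← IsScalarTower.algebraMap_apply S' κ Ω]
  have hfin2 : Module.Finite S' (integralClosure S' L) :=
    Groth.Agent.VarietyB.FinNormField.finite_integralClosure_of_finiteType K S' κ L
  have hN : IsNoetherianRing S' := Algebra.FiniteType.isNoetherianRing K S'
  have hN2 : IsNoetherian S' (integralClosure S' L) := inferInstance
  -- the inclusion of `S`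
  let alg : Algebra S' S := (Subalgebra.inclusion hle).toRingHom.toAlgebra
  have hmem : ∀ s : S, ∃ x : integralClosure S' L,
      algebraMap L Ω (x : L) = algebraMap A Ω (s : A) := by
    intro s
    have h1 : IsIntegral S' (algebraMap A Ω (s : A)) := (hint s s.2).algebraMap
    have h2 : algebraMap A Ω (s : A) ∈ algebraicClosure κ Ω :=
      mem_algebraicClosure_iff.2 ((h1.tower_top (A := κ)).isAlgebraic)
    have h3 : IsIntegral S' (⟨algebraMap A Ω (s : A), h2⟩ : L) := by
      rw [← isIntegral_algebraMap_iff (B := Ω) (algebraMap L Ω).injective]
      exact h1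
    exact ⟨⟨_, h3⟩, rfl⟩
  choose f hf using hmem
  have hfinj : Function.Injective (fun x : integralClosure S' L => algebraMap L Ω (x : L)) :=
    (algebraMap L Ω).injective.comp Subtype.val_injective
  let F : S →ₗ[S'] integralClosure S' L :=
    { toFun := f
      map_add' := fun x y => hfinj (by
        simp only [hf, Subalgebra.coe_add, map_add])
      map_smul' := fun c x => hfinj (by
        simp only [hf, RingHom.id_apply, Algebra.smul_def, Subalgebra.coe_mul, map_mul]
        congr 1
        change algebraMap A Ω (algebraMap S' A c) = algebraMap L Ω (algebraMap S' L c)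
        rw [← IsScalarTower.algebraMap_apply S' L Ω, ← IsScalarTower.algebraMap_apply S' A Ω]) }
  have hF : Function.Injective F := fun x y hxy => by
    have h1 : f x = f y := hxy
    apply Subtype.ext
    apply IsFractionRing.injective A Ω
    rw [← hf, ← hf, h1]
  have hSfin : Module.Finite S' S := Module.Finite.of_injective F hF
  have : IsScalarTower K S' S := .of_algebraMap_eq fun r => rfl
  have hSft : Algebra.FiniteType K S := Algebra.FiniteType.trans hft inferInstance
  exact (Subalgebra.fg_iff_finiteType _).2 hSft

end K496.IntFG
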