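import Groth.Agent.S2111
import Mathlib.GroupTheory.Finiteness
import Mathlib.RingTheory.Ideal.KrullsHeightTheorem
import Mathlib.RingTheory.DiscreteValuationRing.TFAE
import Mathlib.RingTheory.DedekindDomain.Dvr
import Mathlib.RingTheory.Ideal.MinimalPrime.Noetherian

/-!
# Finite generation of a monoid of divisors

`A` a Noetherian normal domain, `p ≠ 0` in `A`, `X` a finitely generated commutative group, `L` a
submonoid of `X` and `φ : X → A` multiplicative on `L`, with `φ l ∣ p ^ n` for every `l ∈ L`, and
such that `φ l ∣ φ l'` (`l, l' ∈ L`) implies `l' - l ∈ L`.  Then `L` is finitely generated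
(finitely many discrete valuations and Gordan's lemma).
-/

set_option autoImplicit false

universe u

namespace K496.MonoidFG

section DVR

variable {A : Type u} [CommRing A] [IsDomain A] [IsNoetherianRing A] [IsIntegrallyClosed A]

/-- Localizations of normal Noetherian domains at primes of height one are DVRs. -/
theorem isDVR_of_height_one (P : Ideal A) [P.IsPrime] (hP : P.height = 1) :
    IsDiscreteValuationRing (Localization.AtPrime P) := by
  have h1 : IsDomain (Localization.AtPrime P) :=
    IsLocalization.isDomain_localization (Ideal.primeCompl_le_nonZeroDivisors P)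
  have h2 : IsNoetherianRing (Localization.AtPrime P) :=
    IsLocalization.isNoetherianRing P.primeCompl _ inferInstance
  have h3 : IsIntegrallyClosed (Localization.AtPrime P) :=
    isIntegrallyClosed_of_isLocalization _ P.primeCompl (Ideal.primeCompl_le_nonZeroDivisors P)
  have hmax : (IsLocalRing.maximalIdeal (Localization.AtPrime P)).height = 1 := by
    have h4 := IsLocalization.height_under P.primeCompl
      (IsLocalRing.maximalIdeal (Localization.AtPrime P))
    rw [IsLocalization.AtPrime.under_maximalIdeal (Localization.AtPrime P) P, hP] at h4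
    exact h4.symm
  have hne : IsLocalRing.maximalIdeal (Localization.AtPrime P) ≠ ⊥ :=
    Ideal.ne_bot_of_height_eq_one hmax
  have hnf : ¬ IsField (Localization.AtPrime P) := by
    rw [IsLocalRing.isField_iff_maximalIdeal_eq]
    exact hne
  suffices h5 : IsIntegrallyClosed (Localization.AtPrime P) ∧
      ∃! Q : Ideal (Localization.AtPrime P), Q ≠ ⊥ ∧ Q.IsPrime from
    ((IsDiscreteValuationRing.TFAE (Localization.AtPrime P) hnf).out 3 0).1 h5
  refine ⟨h3, IsLocalRing.maximalIdeal (Localization.AtPrime P), ⟨hne, inferInstance⟩, ?_⟩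
  rintro Q ⟨hQ0, hQ⟩
  by_contra hcon
  have hlt : Q < IsLocalRing.maximalIdeal (Localization.AtPrime P) :=
    lt_of_le_of_ne (IsLocalRing.le_maximalIdeal hQ.ne_top) hcon
  have h4 := Ideal.height_strict_mono_of_isPrime hlt
  rw [hmax, ENat.lt_one_iff_eq_zero, Ideal.height_eq_zero_iff_eq_bot] at h4
  exact hQ0 h4

/-- Finitely many valuations control divisibility by divisors of powers of `p`. -/
theorem exists_vals (p : A) (hp : p ≠ 0) :
    ∃ (r : ℕ) (v : Fin r → A → ℕ), (∀ i a b, a ≠ 0 → b ≠ 0 → v i (a * b) = v i a + v i b) ∧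
      ∀ a b : A, a ≠ 0 → (∃ n, a ∣ p ^ n) → b ≠ 0 → (∀ i, v i a ≤ v i b) → a ∣ b := by
  classical
  let T : Set (Ideal A) := {P | P.IsPrime ∧ P.height = 1 ∧ p ∈ P}
  have hT : T.Finite := by
    refine (Ideal.finite_minimalPrimes_of_isNoetherianRing A (Ideal.span {p})).subset ?_
    rintro P ⟨hP1, hP2, hP3⟩
    refine Ideal.mem_minimalPrimes_of_height_le ((Ideal.span_singleton_le_iff_mem _).2 hP3) ?_
    rw [hP2]
    exact Ideal.one_le_height_span_singleton_of_mem_nonZeroDivisors (mem_nonZeroDivisors_of_ne_zero hp)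
  let n := hT.toFinset.card
  let e : Fin n ≃ hT.toFinset := hT.toFinset.equivFin.symm
  have he : ∀ i, ((e i : hT.toFinset) : Ideal A) ∈ T := fun i => hT.mem_toFinset.1 (e i).2
  have hdom : ∀ (P : Ideal A) [P.IsPrime], IsDomain (Localization.AtPrime P) := fun P _ =>
    IsLocalization.isDomain_localization (Ideal.primeCompl_le_nonZeroDivisors P)
  have hinj : ∀ (P : Ideal A) [P.IsPrime],
      Function.Injective (algebraMap A (Localization.AtPrime P)) := fun P _ =>
    IsLocalization.injective _ (Ideal.primeCompl_le_nonZeroDivisors P)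
  let v : Fin n → A → ℕ := fun i a =>
    have := (he i).1
    have := isDVR_of_height_one ((e i : hT.toFinset) : Ideal A) (he i).2.1
    (IsDiscreteValuationRing.addVal (Localization.AtPrime ((e i : hT.toFinset) : Ideal A))
      (algebraMap A _ a)).toNat
  refine ⟨n, v, ?_, ?_⟩
  · intro i a b ha hb
    have := (he i).1
    have := isDVR_of_height_one ((e i : hT.toFinset) : Ideal A) (he i).2.1
    simp only [v]
    rw [map_mul, IsDiscreteValuationRing.addVal_mul, ENat.toNat_add]
    · rw [ne_eq, IsDiscreteValuationRing.addVal_eq_top_iff]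
      exact fun h => ha (hinj _ (by rw [h, map_zero]))
    · rw [ne_eq, IsDiscreteValuationRing.addVal_eq_top_iff]
      exact fun h => hb (hinj _ (by rw [h, map_zero]))
  · rintro a b ha ⟨m, hm⟩ hb hab
    have ha' : algebraMap A (FractionRing A) a ≠ 0 := by
      rw [ne_eq, FaithfulSMul.algebraMap_eq_zero_iff]
      exact ha
    obtain ⟨c, hc⟩ := Groth.Agent.S2111.result
      (algebraMap A (FractionRing A) b / algebraMap A (FractionRing A) a) (fun P hPp hP => by
        by_cases hpP : p ∈ P
        · obtain ⟨i, hi⟩ : ∃ i, ((e i : hT.toFinset) : Ideal A) = P :=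
            ⟨e.symm ⟨P, hT.mem_toFinset.2 ⟨hPp, hP, hpP⟩⟩, by simp⟩
          subst hi
          have := isDVR_of_height_one ((e i : hT.toFinset) : Ideal A) (he i).2.1
          have h1 : algebraMap A (Localization.AtPrime ((e i : hT.toFinset) : Ideal A)) a ∣
              algebraMap A _ b := by
            rw [← IsDiscreteValuationRing.addVal_le_iff_dvd]
            have h2 := hab i
            simp only [v] at h2
            rw [← ENat.natCast_le_natCast, ENat.natCast_toNat, ENat.natCast_toNat] at h2
            · exact h2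
            · rw [ne_eq, IsDiscreteValuationRing.addVal_eq_top_iff]
              exact fun h => hb (hinj _ (by rw [h, map_zero]))
            · rw [ne_eq, IsDiscreteValuationRing.addVal_eq_top_iff]
              exact fun h => ha (hinj _ (by rw [h, map_zero]))
          obtain ⟨c, hc⟩ := h1
          refine ⟨c, ?_⟩
          rw [eq_div_iff ha', mul_comm,
            IsScalarTower.algebraMap_apply A (Localization.AtPrime ((e i : hT.toFinset) : Ideal A))
              (FractionRing A) a,
            IsScalarTower.algebraMap_apply A (Localization.AtPrime ((e i : hT.toFinset) : Ideal A))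
              (FractionRing A) b, hc, map_mul]
        · have haP : a ∉ P := by
            intro haP
            exact hpP (hPp.mem_of_pow_mem m (P.mem_of_dvd hm haP))
          refine ⟨IsLocalization.mk' _ b (⟨a, haP⟩ : P.primeCompl), ?_⟩
          rw [eq_div_iff ha',
            IsScalarTower.algebraMap_apply A (Localization.AtPrime P) (FractionRing A) a,
            IsScalarTower.algebraMap_apply A (Localization.AtPrime P) (FractionRing A) b,
            ← map_mul]
          congr 1
          exact IsLocalization.mk'_spec _ b (⟨a, haP⟩ : P.primeCompl))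
    refine ⟨c, ?_⟩
    rw [eq_div_iff ha', ← map_mul] at hc
    rw [mul_comm]
    exact (IsFractionRing.injective A (FractionRing A) hc).symm

end DVR

section Monoid

/-- A submonoid of a finitely generated commutative group, with an additive map to `ℕ ^ r` such that
differences of elements with comparable images stay in the submonoid, is finitely generated. -/
theorem fg_of_hom {X : Type*} [AddCommGroup X] [AddGroup.FG X] (L : AddSubmonoid X) {r : ℕ}
    (ψ : L →+ (Fin r → ℕ)) (h : ∀ x y : L, ψ x ≤ ψ y → (y : X) - x ∈ L) : L.FG := by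
  classical
  -- the kernel
  let L₀ : AddSubgroup X :=
    { carrier := {x | ∃ hx : x ∈ L, ψ ⟨x, hx⟩ = 0}
      zero_mem' := ⟨L.zero_mem, map_zero ψ⟩
      add_mem' := by
        rintro x y ⟨hx, hx0⟩ ⟨hy, hy0⟩
        refine ⟨L.add_mem hx hy, ?_⟩
        have : (⟨x + y, L.add_mem hx hy⟩ : L) = ⟨x, hx⟩ + ⟨y, hy⟩ := rfl
        rw [this, map_add, hx0, hy0, add_zero]
      neg_mem' := by
        rintro x ⟨hx, hx0⟩
        have h1 : -x ∈ L := by
          have := h ⟨x, hx⟩ 0 (by rw [hx0, map_zero])
          simpa using this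
        refine ⟨h1, ?_⟩
        have h2 : (⟨x, hx⟩ : L) + ⟨-x, h1⟩ = 0 := Subtype.ext (by simp)
        have h3 := congrArg ψ h2
        rwa [map_add, hx0, zero_add, map_zero] at h3 }
  have hL₀ : L₀.toAddSubmonoid.FG := by
    rw [← AddSubgroup.fg_iff_addSubmonoid_fg]
    have h1 : Module.Finite ℤ X := Module.Finite.iff_addGroup_fg.2 inferInstance
    have h2 : IsNoetherian ℤ X := inferInstance
    have h3 := h2.noetherian (AddSubgroup.toIntSubmodule L₀)
    rw [Submodule.fg_iff_addSubgroup_fg] at h3
    exact h3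
  -- the image
  have hP : (AddMonoidHom.mrange ψ).FG := by
    apply AddSubmonoid.fg_of_subtractive
    rintro _ ⟨x, rfl⟩ y ⟨z, hz⟩
    have h1 : ψ x ≤ ψ z := by rw [hz]; exact le_self_add
    refine ⟨⟨z - x, h x z h1⟩, ?_⟩
    have h2 : x + ⟨z - x, h x z h1⟩ = z := Subtype.ext (by simp)
    have h3 := congrArg ψ h2
    rw [map_add, hz] at h3
    exact add_left_cancel h3
  obtain ⟨s, hs⟩ := hP
  have hs' : ∀ y ∈ s, ∃ x : L, ψ x = y := fun y hy => by
    have : y ∈ AddMonoidHom.mrange ψ := by
      rw [← hs]; exact AddSubmonoid.subset_closure hy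
    exact this
  choose! g hg using hs'
  have hmain : L = L₀.toAddSubmonoid ⊔ AddSubmonoid.closure ((fun y => ((g y : L) : X)) '' s) := by
    apply le_antisymm
    · intro x hx
      have h1 : ψ ⟨x, hx⟩ ∈ AddSubmonoid.closure (s : Set (Fin r → ℕ)) := by
        rw [hs]; exact ⟨_, rfl⟩
      obtain ⟨z, hz, hz1⟩ : ∃ z : L, ψ z = ψ ⟨x, hx⟩ ∧
          (z : X) ∈ AddSubmonoid.closure ((fun y => ((g y : L) : X)) '' s) := by
        generalize ψ ⟨x, hx⟩ = w at h1
        induction h1 using AddSubmonoid.closure_induction with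
        | mem y hy => exact ⟨g y, hg y hy, AddSubmonoid.subset_closure ⟨y, hy, rfl⟩⟩
        | zero => exact ⟨0, map_zero ψ, AddSubmonoid.zero_mem _⟩
        | add a b _ _ iha ihb =>
          obtain ⟨za, h1, h2⟩ := iha
          obtain ⟨zb, h3, h4⟩ := ihb
          exact ⟨za + zb, by rw [map_add, h1, h3], AddSubmonoid.add_mem _ h2 h4⟩
      have h2 : x - z ∈ L := h z ⟨x, hx⟩ hz.le
      have h3 : ψ ⟨x - z, h2⟩ = 0 := by
        have h4 : z + ⟨x - z, h2⟩ = ⟨x, hx⟩ := Subtype.ext (by simp)
        have h5 := congrArg ψ h4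
        rw [map_add, hz] at h5
        exact add_eq_left.1 h5
      have h4 : x = (x - z) + z := by simp
      rw [h4]
      exact AddSubmonoid.add_mem _ (AddSubmonoid.mem_sup_left ⟨h2, h3⟩)
        (AddSubmonoid.mem_sup_right hz1)
    · refine sup_le ?_ ?_
      · rintro x ⟨hx, -⟩
        exact hx
      · rw [AddSubmonoid.closure_le]
        rintro _ ⟨y, -, rfl⟩
        exact (g y).2
  rw [hmain]
  refine AddSubmonoid.FG.sup hL₀ ⟨s.image fun y => ((g y : L) : X), ?_⟩
  rw [Finset.coe_image]

end Monoid

/-- **Finite generation of a monoid of divisors.** -/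
theorem fg_of_dvd {A : Type u} [CommRing A] [IsDomain A] [IsNoetherianRing A] [IsIntegrallyClosed A]
    {p : A} (hp : p ≠ 0) {X : Type*} [AddCommGroup X] [AddGroup.FG X] (L : AddSubmonoid X)
    (φ : X → A) (h0 : ∀ l ∈ L, φ l ≠ 0) (hmul : ∀ l ∈ L, ∀ l' ∈ L, φ (l + l') = φ l * φ l')
    (hdvd : ∀ l ∈ L, ∃ n, φ l ∣ p ^ n) (h : ∀ l ∈ L, ∀ l' ∈ L, φ l ∣ φ l' → l' - l ∈ L) :
    L.FG := by
  obtain ⟨r, v, hv1, hv2⟩ := exists_vals p hp
  have hadd : ∀ l ∈ L, ∀ l' ∈ L, ∀ i, v i (φ (l + l')) = v i (φ l) + v i (φ l') :=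
    fun l hl l' hl' i => by rw [hmul l hl l' hl', hv1 i _ _ (h0 l hl) (h0 l' hl')]
  let ψ : L →+ (Fin r → ℕ) :=
    { toFun := fun l i => v i (φ l)
      map_zero' := by
        funext i
        have h1 := hadd 0 L.zero_mem 0 L.zero_mem i
        rw [add_zero] at h1
        change v i (φ 0) = 0
        omega
      map_add' := fun l l' => by
        funext i
        exact hadd l l.2 l' l'.2 i }
  refine fg_of_hom L ψ fun x y hxy => h x x.2 y y.2 ?_
  exact hv2 _ _ (h0 x x.2) (hdvd x x.2) (h0 y y.2) hxy

end K496.MonoidFG
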