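import Groth.Agent.Sga3B.RG.BrPts
import Groth.Agent.S1535
import Groth.Agent.S2821
import Mathlib.RingTheory.LocalProperties.IntegrallyClosed

/-!
# A finitely generated Hopf domain over an algebraically closed field is normal
-/

set_option autoImplicit false

universe u

open CategoryTheory AlgebraicGeometry
open Groth.Agent.Books.AffBridge Groth.Agent.Books.AffBridge2

namespace K496.Normal

open Groth.Agent.Sga3B.RG.BrPts

theorem isIntegrallyClosed (K : Type u) [Field K] [IsAlgClosed K] (A : Type u) [CommRing A]
    [HopfAlgebra K A] [Algebra.FiniteType K A] [IsDomain A] : IsIntegrallyClosed A := by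
  have hsm : Smooth (SpecOver K A).hom := (smooth_iff (K := K) A).2 inferInstance
  refine IsIntegrallyClosed.of_localization_maximal fun P hP0 hP => ?_
  let x : Spec (CommRingCat.of A) := ⟨P, hP.isPrime⟩
  let : (Spec (CommRingCat.of A)).Over (Spec (CommRingCat.of K)) := ⟨(SpecOver K A).hom⟩
  have : Smooth ((Spec (CommRingCat.of A)) ↘ (Spec (CommRingCat.of K))) := hsm
  have h1 : IsRegularLocalRing ((Spec (CommRingCat.of A)).presheaf.stalk x) :=
    Groth.Agent.S1535.result K (Spec (CommRingCat.of A)) x
  have h2 : IsRegularLocalRing (Localization.AtPrime P) :=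
    IsRegularLocalRing.of_ringEquiv (Spec.stalkIso (CommRingCat.of A) x).commRingCatIsoToRingEquiv
  obtain ⟨h3, h4⟩ := Groth.Agent.S2821.result (Localization.AtPrime P)
  infer_instance

end K496.Normal
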