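import Groth.Agent.AGF.K496.Semi
import Groth.Agent.AGF.K496.MonoidFG
import Groth.Agent.AGF.K496.IntFG
import Groth.Agent.AGF.K496.Normal
import Groth.Agent.Sga3B.RG.UnipRep

/-!
# Maximal unipotent subgroups are Grosshans subgroups, on points

`K` algebraically closed, `A` a finitely generated Hopf domain, `B` a Borel subgroup of the group of
points.  The algebra `rInv B` of functions invariant under right translation by the unipotent
elements of `B` is finitely generated.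
-/

set_option autoImplicit false
set_option linter.unusedSectionVars false

universe u

open WithConv TensorProduct Coalgebra
open scoped LaurentPolynomial

namespace K496.GrossPt

open Groth.Agent.Sga3B.RG Groth.Agent.Sga3B.Parab.BorelPts172 K496.ConeInt K496.Semi
open Groth.Agent.Sga3B.RG.Trig Groth.Agent.Sga3B.RG.TrigTorus
open Groth.Agent.Agf.H595.BorTorus Groth.Agent.Agf.H592.NormB

variable {K : Type u} [Field K] [IsAlgClosed K] {A : Type u} [CommRing A] [HopfAlgebra K A]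
  [Algebra.FiniteType K A]

/-- The functions invariant under right translation by the unipotent elements of `H`. -/
def rInv (H : Subgroup (Pt K A)) : Subalgebra K A where
  carrier := {f | ∀ x : Pt K A, ∀ u ∈ H, IsUnip u → (x * u) f = x f}
  mul_mem' := by
    intro a b ha hb x u hu hu'
    rw [Pt.apply_mul, Pt.apply_mul, ha x u hu hu', hb x u hu hu']
  add_mem' := by
    intro a b ha hb x u hu hu'
    rw [Pt.apply_add, Pt.apply_add, ha x u hu hu', hb x u hu hu']
  algebraMap_mem' := by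
    intro c x u _ _
    rw [Pt.apply_algebraMap, Pt.apply_algebraMap]

lemma mem_rInv {H : Subgroup (Pt K A)} {f : A} :
    f ∈ rInv H ↔ ∀ x : Pt K A, ∀ u ∈ H, IsUnip u → (x * u) f = x f := Iff.rfl

section trig

/-- Borel subgroups are trigonalizable. -/
theorem isTrig_of_isCCS {H : Subgroup (Pt K A)} (hH : IsCCS H) :
    IsTrig K (A ⧸ vanIdeal (H : Set (Pt K A))) := by
  have hdom : IsDomain (A ⧸ vanIdeal (H : Set (Pt K A))) := isDomain_quot_of_isConn hH.isConn
  have hsol := SolvLine.isSolvable_quot hH.isCl hH.isSolvable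
  exact Trig.isTrig_of_simple fun V _ _ _ ρ hρ hs => SolvLine.finrank_eq_one hsol hρ hs

end trig

variable [IsDomain A]

/-- The opposite cell of a Borel subgroup. -/
theorem exists_opp {B : Subgroup (Pt K A)} (hB : IsBorelPt B) :
    ∃ (N : Subgroup (Pt K A)) (p : A), (∀ u ∈ N, IsUnip u) ∧ p ≠ 0 ∧
      ∀ x : Pt K A, x p ≠ 0 → ∃ u ∈ N, ∃ b ∈ B, x = u * b := by
  have hK : Infinite K := IsAlgClosed.instInfinite
  obtain ⟨T, hT⟩ := exists_isMaxTorusSub (K := K) (A := A)
  obtain ⟨lam, hlam, hC⟩ := hT.1.exists_coch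
  obtain ⟨g, hg⟩ := hB.exists_conj_le (isCCS_Psub hT hC)
  obtain ⟨p, hp0, -, hp⟩ := exists_cell lam
  refine ⟨(Usub (invCoch lam)).map (MulAut.conj g).toMonoidHom, rTr g (lTr g p), ?_, ?_, ?_⟩
  · rintro _ ⟨u, hu, rfl⟩
    exact (isUnip_of_mem_Usub hu).conj g
  · intro h0
    apply hp0
    refine eq_zero_of_forall_pt (K := K) fun x => ?_
    have h1 : (g * x * g⁻¹) (rTr g (lTr g p)) = x p := by
      rw [rTr_apply_pt, lTr_apply_pt]
      congr 1
      group
    rw [← h1, h0, Pt.apply_zero]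
  · intro x hx
    rw [rTr_apply_pt, lTr_apply_pt] at hx
    obtain ⟨u, hu, b, hb, hxub⟩ := hp _ hx
    refine ⟨g * u * g⁻¹, ⟨u, hu, rfl⟩, g * b * g⁻¹, hg ⟨b, hb, rfl⟩, ?_⟩
    have h2 : x = g * (g⁻¹ * (x * g)) * g⁻¹ := by group
    rw [h2, hxub]
    group

section main

variable {B N : Subgroup (Pt K A)} (hB : IsBorelPt B) (hN : ∀ u ∈ N, IsUnip u) {p : A}
  (hp : p ≠ 0) (hcell : ∀ x : Pt K A, x p ≠ 0 → ∃ u ∈ N, ∃ b ∈ B, x = u * b)

include hB hcell in
/-- Values on the cell. -/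
lemma exists_apply_cell {χ : GroupLike K (A ⧸ vanIdeal (B : Set (Pt K A)))} {f : A} (hf : f ∈ S B χ)
    (hfN : ∀ u ∈ N, ∀ x : Pt K A, (u * x) f = x f) {x : Pt K A} (hx : x p ≠ 0) :
    ∃ c : K, c ≠ 0 ∧ x f = (1 : Pt K A) f * c ∧ ∃ b ∈ B, c = b (lft B χ) ∧
      ∀ f' ∈ S B χ, (∀ u ∈ N, ∀ x : Pt K A, (u * x) f' = x f') → x f' = (1 : Pt K A) f' * c := by
  obtain ⟨u, hu, b, hb, rfl⟩ := hcell x hx
  have key : ∀ f' ∈ S B χ, (∀ u ∈ N, ∀ x : Pt K A, (u * x) f' = x f') →
      (u * b) f' = (1 : Pt K A) f' * b (lft B χ) := by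
    intro f' hf' hfN'
    rw [hfN' u hu, ← hf' 1 b hb, one_mul]
  exact ⟨b (lft B χ), lft_ne_zero hB.isCl hb χ, key f hf hfN, b, hb, rfl, key⟩

include hB hp hcell in
/-- Uniqueness of the normalised function. -/
lemma eq_of_one_eq {χ : GroupLike K (A ⧸ vanIdeal (B : Set (Pt K A)))} {f f' : A} (hf : f ∈ S B χ)
    (hf' : f' ∈ S B χ) (hfN : ∀ u ∈ N, ∀ x : Pt K A, (u * x) f = x f)
    (hfN' : ∀ u ∈ N, ∀ x : Pt K A, (u * x) f' = x f')
    (h1 : (1 : Pt K A) f = (1 : Pt K A) f') : f = f' := by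
  have h2 : (f - f') * p = 0 := by
    refine eq_zero_of_forall_pt (K := K) fun x => ?_
    rw [Pt.apply_mul]
    by_cases hx : x p = 0
    · rw [hx, mul_zero]
    · obtain ⟨c, -, hc, b, -, -, hc'⟩ := exists_apply_cell hB hcell hf hfN hx
      rw [Pt.apply_sub, hc, hc' f' hf' hfN', h1, sub_self, zero_mul]
  rcases mul_eq_zero.1 h2 with h3 | h3
  · exact sub_eq_zero.1 h3
  · exact absurd h3 hp

variable (B N) in
/-- The monoid of dominant characters. -/
def dom (hcl : IsCl (B : Set (Pt K A))) :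
    Submonoid (GroupLike K (A ⧸ vanIdeal (B : Set (Pt K A)))) where
  carrier := {χ | ∃ f ∈ S B χ, (∀ u ∈ N, ∀ x : Pt K A, (u * x) f = x f) ∧ (1 : Pt K A) f = 1}
  one_mem' := ⟨1, one_mem_S hcl, fun _ _ _ => by rw [Pt.apply_one, Pt.apply_one],
    Pt.apply_one _⟩
  mul_mem' := by
    rintro χ χ' ⟨f, hf, hfN, hf1⟩ ⟨f', hf', hfN', hf1'⟩
    refine ⟨f * f', S_mul hcl hf hf', fun u hu x => ?_, ?_⟩
    · rw [Pt.apply_mul, Pt.apply_mul, hfN u hu, hfN' u hu]
    · rw [Pt.apply_mul, hf1, hf1', one_mul]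

omit [IsDomain A] in
/-- Nullstellensatz for divisibility of a power. -/
lemma exists_dvd_pow {f p : A} (h : ∀ x : Pt K A, x p ≠ 0 → x f ≠ 0) : ∃ n, f ∣ p ^ n := by
  have h1 : IsNilpotent (Ideal.Quotient.mk (Ideal.span {f}) p) := by
    refine Groth.Agent.Books.PointsAC.isNilpotent_of_forall_point K _ _ fun g => ?_
    by_contra hcon
    refine h (toConv (g.comp (Ideal.Quotient.mkₐ K (Ideal.span {f})))) hcon ?_
    change g (Ideal.Quotient.mk (Ideal.span {f}) f) = 0
    rw [Ideal.Quotient.eq_zero_iff_mem.2 (Ideal.mem_span_singleton_self f), map_zero]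
  obtain ⟨n, hn⟩ := h1
  refine ⟨n, ?_⟩
  rw [← map_pow, Ideal.Quotient.eq_zero_iff_mem, Ideal.mem_span_singleton] at hn
  exact hn

include hB hp hcell in
/-- **The monoid of dominant characters is finitely generated.** -/
theorem fg_dom : (dom B N hB.isCl).FG := by
  classical
  have hdom : IsDomain (A ⧸ vanIdeal (B : Set (Pt K A))) := isDomain_quot_of_isConn hB.isConn
  have hNoeth : IsNoetherianRing A := Algebra.FiniteType.isNoetherianRing K A
  have hnorm : IsIntegrallyClosed A := K496.Normal.isIntegrallyClosed K A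
  have hfg : Group.FG (GroupLike K (A ⧸ vanIdeal (B : Set (Pt K A)))) :=
    groupLike_fg (isTrig_of_isCCS hB.toIsCCS)
  rw [Submonoid.fg_iff_add_fg]
  have hex : ∀ χ : GroupLike K (A ⧸ vanIdeal (B : Set (Pt K A))), ∃ f : A, χ ∈ dom B N hB.isCl →
      f ∈ S B χ ∧ (∀ u ∈ N, ∀ x : Pt K A, (u * x) f = x f) ∧ (1 : Pt K A) f = 1 := by
    intro χ
    by_cases h : χ ∈ dom B N hB.isCl
    · obtain ⟨f, hf⟩ := h
      exact ⟨f, fun _ => hf⟩
    · exact ⟨0, fun h' => absurd h' h⟩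
  choose φ hφ using hex
  have hne : ∀ χ ∈ dom B N hB.isCl, ∀ x : Pt K A, x p ≠ 0 → x (φ χ) ≠ 0 := by
    intro χ hχ x hx
    obtain ⟨h1, h2, h3⟩ := hφ χ hχ
    obtain ⟨c, hc0, hc, -⟩ := exists_apply_cell hB hcell h1 h2 hx
    rw [hc, h3, one_mul]
    exact hc0
  refine K496.MonoidFG.fg_of_dvd hp _ (fun χ => φ χ.toMul) ?_ ?_ ?_ ?_
  · intro χ hχ h0
    obtain ⟨h1, h2, h3⟩ := hφ χ.toMul hχ
    rw [h0, Pt.apply_zero] at h3
    exact zero_ne_one h3
  · intro χ hχ χ' hχ'
    obtain ⟨h1, h2, h3⟩ := hφ χ.toMul hχ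
    obtain ⟨h1', h2', h3'⟩ := hφ χ'.toMul hχ'
    obtain ⟨h4, h5, h6⟩ := hφ (χ.toMul * χ'.toMul) ((dom B N hB.isCl).mul_mem hχ hχ')
    refine eq_of_one_eq hB hp hcell h4 (S_mul hB.isCl h1 h1') h5 ?_ ?_
    · intro u hu x
      rw [Pt.apply_mul, Pt.apply_mul, h2 u hu, h2' u hu]
    · rw [Pt.apply_mul, h3, h3', one_mul]
      exact h6
  · intro χ hχ
    exact exists_dvd_pow (hne χ.toMul hχ)
  · rintro χ hχ χ' hχ' ⟨g, hg⟩
    obtain ⟨h1, h2, h3⟩ := hφ χ.toMul hχ
    obtain ⟨h1', h2', h3'⟩ := hφ χ'.toMul hχ'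
    have hφ0 : φ χ.toMul ≠ 0 := by
      intro h0
      rw [h0, Pt.apply_zero] at h3
      exact zero_ne_one h3
    have hχχ : χ'.toMul = (χ'.toMul * (χ.toMul)⁻¹) * χ.toMul := by rw [inv_mul_cancel_right]
    have h4 : χ'.toMul * (χ.toMul)⁻¹ ∈ dom B N hB.isCl := by
      refine ⟨g, ?_, ?_, ?_⟩
      · intro x b hb
        have h5 : φ χ.toMul * (b (lft B χ.toMul) • rTr b g - b (lft B χ'.toMul) • g) = 0 := by
          refine eq_zero_of_forall_pt (K := K) fun y => ?_
          have h6 := h1' y b hb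
          rw [hg, Pt.apply_mul, Pt.apply_mul, h1 y b hb] at h6
          rw [Pt.apply_mul, Pt.apply_sub, Pt.apply_smul, Pt.apply_smul, rTr_apply_pt, mul_sub,
            sub_eq_zero]
          calc y (φ χ.toMul) * (b (lft B χ.toMul) * (y * b) g)
              = y (φ χ.toMul) * b (lft B χ.toMul) * (y * b) g := by ring
            _ = y (φ χ.toMul) * y g * b (lft B χ'.toMul) := h6
            _ = y (φ χ.toMul) * (b (lft B χ'.toMul) * y g) := by ring
        have h6 := (mul_eq_zero.1 h5).resolve_left hφ0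
        have h7 : b (lft B χ.toMul) * (x * b) g = b (lft B χ'.toMul) * x g := by
          have h8 : x (b (lft B χ.toMul) • rTr b g - b (lft B χ'.toMul) • g) = 0 := by
            rw [h6, Pt.apply_zero]
          rwa [Pt.apply_sub, Pt.apply_smul, Pt.apply_smul, rTr_apply_pt, sub_eq_zero] at h8
        have h8 : b (lft B χ'.toMul) = b (lft B (χ'.toMul * (χ.toMul)⁻¹)) * b (lft B χ.toMul) := by
          conv_lhs => rw [hχχ]
          exact lft_mul hB.isCl hb _ _
        rw [h8] at h7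
        have h9 : b (lft B χ.toMul) ≠ 0 := lft_ne_zero hB.isCl hb _
        apply mul_left_cancel₀ h9
        rw [h7]
        ring
      · intro u hu x
        have h5 : φ χ.toMul * (lTr u⁻¹ g - g) = 0 := by
          refine eq_zero_of_forall_pt (K := K) fun y => ?_
          have h6 := h2' u hu y
          rw [hg, Pt.apply_mul, Pt.apply_mul, h2 u hu y] at h6
          rw [Pt.apply_mul, Pt.apply_sub, lTr_apply_pt, inv_inv, mul_sub, sub_eq_zero]
          exact h6
        have h6 := (mul_eq_zero.1 h5).resolve_left hφ0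
        have h7 : x (lTr u⁻¹ g - g) = 0 := by rw [h6, Pt.apply_zero]
        rwa [Pt.apply_sub, lTr_apply_pt, inv_inv, sub_eq_zero] at h7
      · rw [hg, Pt.apply_mul, h3, one_mul] at h3'
        exact h3'
    exact h4

omit [IsDomain A] in
/-- Every semi-invariant lies in a finite-dimensional space of semi-invariants stable under left
translations. -/
theorem exists_stable_semi [IsReduced A] {χ : GroupLike K (A ⧸ vanIdeal (B : Set (Pt K A)))} {f : A}
    (hf : f ∈ S B χ) : ∃ W : Submodule K A, FiniteDimensional K W ∧ f ∈ W ∧ W ≤ S B χ ∧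
      ∀ g : Pt K A, ∀ w ∈ W, lTr g w ∈ W := by
  have hfd : FiniteDimensional K (K ∙ f) := inferInstance
  obtain ⟨U, hUfd, hfU, -, hUl⟩ := exists_stable (K := K) (A := A) (K ∙ f)
  refine ⟨U ⊓ S B χ, Submodule.finiteDimensional_inf_left _ _,
    ⟨hfU (Submodule.mem_span_singleton_self f), hf⟩, inf_le_right, fun g w hw => ?_⟩
  exact ⟨hUl g hw.1, lTr_mem_S hw.2 g⟩

include hB hN hp hcell in
/-- Characters with nonzero semi-invariants are dominant. -/
theorem mem_dom_of_ne_zero {χ : GroupLike K (A ⧸ vanIdeal (B : Set (Pt K A)))} {f : A}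
    (hf : f ∈ S B χ) (hf0 : f ≠ 0) : χ ∈ dom B N hB.isCl := by
  obtain ⟨W, hWfd, hfW, hWS, hWst⟩ := exists_stable_semi hf
  have hst : IsStable (lTrRep K A) W := fun g w hw => hWst g w hw
  obtain ⟨v, -, hv0, hv⟩ := exists_fixed_of_isUnip
    (ρ := CentralPt.subRep (lTrRep K A) W hst) (CentralPt.isAlg_subRep (isAlg_lTrRep K A) W hst) hN ⊤
    (fun _ _ _ _ => trivial) (fun h => hf0 (by
      have h1 : (⟨f, hfW⟩ : W) ∈ (⊤ : Submodule K W) := trivial
      rw [h, Submodule.mem_bot] at h1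
      exact congrArg Subtype.val h1))
  have hvN : ∀ u ∈ N, ∀ x : Pt K A, (u * x) (v : A) = x (v : A) := by
    intro u hu x
    have h1 : lTr u⁻¹ (v : A) = v := congrArg Subtype.val (hv u⁻¹ (N.inv_mem hu))
    have h2 := lTr_apply_pt u⁻¹ x (v : A)
    rw [inv_inv, h1] at h2
    exact h2.symm
  have hv1 : (1 : Pt K A) (v : A) ≠ 0 := by
    intro h0
    apply hv0
    apply Subtype.ext
    refine eq_of_one_eq hB hp hcell (hWS v.2) (S B χ).zero_mem hvN
      (fun _ _ _ => by rw [Submodule.coe_zero, Pt.apply_zero, Pt.apply_zero]) ?_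
    rw [h0, Submodule.coe_zero, Pt.apply_zero]
  refine ⟨((1 : Pt K A) (v : A))⁻¹ • (v : A), (S B χ).smul_mem _ (hWS v.2), fun u hu x => ?_, ?_⟩
  · rw [Pt.apply_smul, Pt.apply_smul, hvN u hu]
  · rw [Pt.apply_smul, inv_mul_cancel₀ hv1]

omit [IsDomain A] in
/-- A nonzero subspace stable under left translations generates the unit ideal. -/
theorem span_eq_top_of_stable [IsReduced A] {W : Submodule K A} (hW : W ≠ ⊥)
    (hst : ∀ g : Pt K A, ∀ w ∈ W, lTr g w ∈ W) : Ideal.span (W : Set A) = ⊤ := by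
  by_contra hcon
  obtain ⟨m, hm, hle⟩ := Ideal.exists_le_maximal _ hcon
  obtain ⟨g, hg⟩ := Groth.Agent.Books.PointsAC.exists_point_of_isMaximal K A m
  have h1 : ∀ w ∈ W, g w = 0 := fun w hw => by
    rw [← RingHom.mem_ker, hg]
    exact hle (Ideal.subset_span hw)
  apply hW
  rw [eq_bot_iff]
  intro w hw
  rw [Submodule.mem_bot]
  refine eq_zero_of_forall_pt (K := K) fun x => ?_
  have h2 := h1 _ (hst (toConv g * x⁻¹) w hw)
  have h3 : (toConv g : Pt K A) (lTr (toConv g * x⁻¹) w) = x w := by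
    rw [lTr_apply_pt]
    congr 1
    group
  rw [← h3]
  exact h2

include hB hN hp hcell in
/-- **Maximal unipotent subgroups are Grosshans subgroups**, on points. -/
theorem fg_rInv_aux : (rInv B).FG := by
  classical
  obtain ⟨s, hs⟩ := fg_dom hB hp hcell
  -- spaces of semi-invariants
  have hex : ∀ χ : GroupLike K (A ⧸ vanIdeal (B : Set (Pt K A))), ∃ W : Submodule K A,
      χ ∈ dom B N hB.isCl → FiniteDimensional K W ∧ W ≠ ⊥ ∧ W ≤ S B χ ∧
        ∀ g : Pt K A, ∀ w ∈ W, lTr g w ∈ W := by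
    intro χ
    by_cases h : χ ∈ dom B N hB.isCl
    · obtain ⟨f, hf, -, hf1⟩ := h
      obtain ⟨W, h1, h2, h3, h4⟩ := exists_stable_semi hf
      refine ⟨W, fun _ => ⟨h1, fun hW => ?_, h3, h4⟩⟩
      rw [hW, Submodule.mem_bot] at h2
      rw [h2, Pt.apply_zero] at hf1
      exact zero_ne_one hf1
    · exact ⟨⊥, fun h' => absurd h' h⟩
  choose W hW using hex
  have hsd : ∀ χ ∈ s, χ ∈ dom B N hB.isCl := fun χ hχ => by
    rw [← hs]; exact Submonoid.subset_closure hχ
  have hbas : ∀ χ ∈ s, ∃ t : Finset A, Submodule.span K (t : Set A) = W χ := fun χ hχ => by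
    have := (hW χ (hsd χ hχ)).1
    exact (Module.Finite.iff_fg (N := W χ)).1 this
  choose! t ht using hbas
  let S' : Subalgebra K A := Algebra.adjoin K (s.biUnion t : Set A)
  have hS'fg : S'.FG := ⟨_, rfl⟩
  have hWS' : ∀ χ ∈ s, (W χ : Set A) ⊆ S' := by
    intro χ hχ w hw
    have h1 : w ∈ Submodule.span K (t χ : Set A) := by rw [ht χ hχ]; exact hw
    have h2 : Submodule.span K (t χ : Set A) ≤ Subalgebra.toSubmodule S' := by
      rw [Submodule.span_le]
      intro a ha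
      exact Algebra.subset_adjoin (Finset.mem_coe.2 (Finset.mem_biUnion.2 ⟨χ, hχ, ha⟩))
    exact h2 h1
  have hSr : ∀ χ, S B χ ≤ Subalgebra.toSubmodule (rInv B) := by
    intro χ f hf x u hu hu'
    have h1 := hf x u hu
    obtain ⟨y, rfl⟩ := exists_quotMap_eq hB.isCl hu
    rw [isUnip_map_iff Ideal.Quotient.mk_surjective] at hu'
    rw [h1, quotMap_lft, (isUnip_iff (isTrig_of_isCCS hB.toIsCCS) y).1 hu' χ, mul_one]
  have hle : S' ≤ rInv B := by
    rw [Algebra.adjoin_le_iff]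
    intro a ha
    obtain ⟨χ, hχ, haχ⟩ := Finset.mem_biUnion.1 (Finset.mem_coe.1 ha)
    apply hSr χ
    apply (hW χ (hsd χ hχ)).2.2.1
    rw [← ht χ hχ]
    exact Submodule.subset_span haχ
  refine K496.IntFG.fg_of_isIntegral hS'fg hle fun f hf => ?_
  obtain ⟨s', c, hc, hfc⟩ := exists_decomp hB.isCl hB.isConn (isTrig_of_isCCS hB.toIsCCS) hf
  rw [hfc]
  refine IsIntegral.sum _ fun χ hχ => ?_
  by_cases h0 : c χ = 0
  · rw [h0]; exact isIntegral_zero
  have hχd := mem_dom_of_ne_zero hB hN hp hcell (hc χ hχ) h0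
  rw [← hs] at hχd
  obtain ⟨n, hn⟩ : ∃ n : GroupLike K (A ⧸ vanIdeal (B : Set (Pt K A))) → ℕ,
      χ = ∏ i ∈ s, i ^ n i := by
    obtain ⟨n, -, hn⟩ := Submonoid.mem_closure_finset.1 hχd
    exact ⟨n, hn.symm⟩
  refine isIntegral_of_isSemi hB s n (lft B) (fun χ => (W χ : Set A)) (fun i hi w hw =>
    (hW i (hsd i hi)).2.2.1 hw) (fun i hi => span_eq_top_of_stable (hW i (hsd i hi)).2.1
      (hW i (hsd i hi)).2.2.2) ?_ S' hWS'
  intro x b hb
  rw [hc χ hχ x b hb, hn]
  congr 1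
  let F : GroupLike K (A ⧸ vanIdeal (B : Set (Pt K A))) →* K :=
    { toFun := fun χ => b (lft B χ)
      map_one' := lft_one hB.isCl hb
      map_mul' := fun χ χ' => lft_mul hB.isCl hb χ χ' }
  change F (∏ i ∈ s, i ^ n i) = b.ofConv (∏ i ∈ s, lft B i ^ n i)
  rw [map_prod, map_prod]
  refine Finset.prod_congr rfl fun i _ => ?_
  rw [map_pow, map_pow]
  rfl

end main

/-- **Maximal unipotent subgroups are Grosshans subgroups**, on points. -/
theorem fg_rInv {B : Subgroup (Pt K A)} (hB : IsBorelPt B) : (rInv B).FG := by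
  obtain ⟨N, p, hN, hp, hcell⟩ := exists_opp hB
  exact fg_rInv_aux hB hN hp hcell

end K496.GrossPt
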