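import Groth.Agent.S1454
import Groth.Agent.UnramA.NormalUnibranch
import Groth.Agent.FlatA.UnivHomeo
import Groth.Agent.Dix.EtMinC
import Groth.Agent.AGF.K496.UnivInj

/-!
# Universally injective surjections of finite type onto a normal scheme (helper496)
-/

set_option autoImplicit false
universe u
open CategoryTheory CategoryTheory.Limits AlgebraicGeometry TopologicalSpace

namespace K496.PInsep

open Groth.Agent.CohqA.ChevGen Groth.Agent.Picfga.RegLocus

/-- A universally injective surjective morphism locally of finite type from an integral scheme onto an integral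
locally Noetherian normal scheme is integral. -/
theorem isIntegralHom {X Y : Scheme.{u}} [IsIntegral X] [IsIntegral Y] [IsLocallyNoetherian X] (f : Y ⟶ X)
    [LocallyOfFiniteType f] [UniversallyInjective f] [Surjective f]
    (hX : ∀ x : X, IsIntegrallyClosed (X.presheaf.stalk x)) : IsIntegralHom f := by
  have hopen : UniversallyOpen f := by
    apply Groth.Agent.S1454.result f
    · intro y
      have := hX y
      exact Groth.Agent.UnramA.NormalUnibranch.isGeomUnibranch_of_isIntegrallyClosed _
    · intro Z hZ x hx
      have h1 : irreducibleComponents Y = {Set.univ} := irreducibleComponents_eq_singleton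
      rw [h1] at hZ
      obtain rfl : Z = Set.univ := hZ
      have h2 : x = genericPoint Y := hx.eq (genericPoint_spec Y)
      refine ⟨Set.univ, ?_, ?_⟩
      · rw [irreducibleComponents_eq_singleton]; rfl
      · rw [h2, map_genericPoint f]
        exact genericPoint_spec X
  have huh : FlatMor.IsUnivHomeo f := by
    intro X' Y' i₁ i₂ f' sq
    have h₁' : UniversallyOpen f' := MorphismProperty.of_isPullback sq.flip hopen
    have h₂' : UniversallyInjective f' := MorphismProperty.of_isPullback sq.flip ‹UniversallyInjective f›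
    have h₃' : Surjective f' := MorphismProperty.of_isPullback sq.flip ‹Surjective f›
    exact ⟨f'.continuous, f'.isOpenMap, f'.injective, f'.surjective⟩
  exact Groth.Agent.FlatA.UnivHomeo.isIntegralHom_of_isUnivHomeo huh

/-- For a universally injective surjective morphism, every rational function on the source has a power which comes
from the target. -/
theorem exists_pow_functionField {X Y : Scheme.{u}} [IsIntegral X] [IsIntegral Y] (f : Y ⟶ X)
    [UniversallyInjective f] [Surjective f] (b : Y.functionField) :
    ∃ n : ℕ, 0 < n ∧ ∃ c : X.functionField, ffMap f c = b ^ n := by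
  have h0 : Function.Injective f ∧ ∀ x, (f.residueFieldMap x).hom.IsPurelyInseparable :=
    ((tfae_universallyInjective f).out 0 2).1 ‹_›
  have h1 : (f.residueFieldMap (genericPoint Y)).hom.IsPurelyInseparable := h0.2 _
  algebraize [(f.residueFieldMap (genericPoint Y)).hom]
  have h2 : IsPurelyInseparable (X.residueField (f (genericPoint Y))) (Y.residueField (genericPoint Y)) := h1
  obtain ⟨q, hq⟩ := ExpChar.exists (X.residueField (f (genericPoint Y)))
  obtain ⟨n, c, hc⟩ := h2.pow_mem _ q (Y.residue (genericPoint Y) b)
  obtain ⟨c', rfl⟩ := IsLocalRing.residue_surjective (R := X.presheaf.stalk (f (genericPoint Y))) c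
  have h3 : Function.Injective (Y.residue (genericPoint Y)) := by
    exact (Y.residue (genericPoint Y)).hom.injective
  have h4 : f.stalkMap (genericPoint Y) c' = b ^ (q ^ n) := by
    apply h3
    rw [map_pow, ← hc]
    exact congr($(Scheme.residue_residueFieldMap f (genericPoint Y)) c')
  have h5 := expChar_pos (X.residueField (f (genericPoint Y))) q
  obtain ⟨c'', hc''⟩ : ∃ c'' : X.functionField,
      X.presheaf.stalkSpecializes (specializes_of_eq (map_genericPoint f)) c'' = c' := by
    obtain ⟨U, hxU, s, rfl⟩ := X.presheaf.exists_germ_eq c'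
    have hxU' : genericPoint X ∈ U := by rw [← map_genericPoint f]; exact hxU
    refine ⟨X.presheaf.germ U _ hxU' s, ?_⟩
    exact congr($(X.presheaf.germ_stalkSpecializes hxU' (specializes_of_eq (map_genericPoint f))) s)
  refine ⟨q ^ n, pow_pos h5 n, c'', ?_⟩
  rw [ffMap, CommRingCat.comp_apply, hc'', h4]

/-- For an integral universally injective surjection onto a normal scheme, every global function on the source has a
power which comes from the target. -/
theorem exists_pow_appTop {X Y : Scheme.{u}} [IsIntegral X] [IsIntegral Y] (f : Y ⟶ X)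
    [IsIntegralHom f] [UniversallyInjective f] [Surjective f]
    (hX : ∀ x : X, IsIntegrallyClosed (X.presheaf.stalk x)) (b : Γ(Y, ⊤)) :
    ∃ n : ℕ, 0 < n ∧ ∃ c : Γ(X, ⊤), f.appTop c = b ^ n := by
  have : Nonempty (⊤ : X.Opens) := ⟨⟨genericPoint X, trivial⟩⟩
  have : Nonempty (⊤ : Y.Opens) := ⟨⟨genericPoint Y, trivial⟩⟩
  have : Nonempty (f ⁻¹ᵁ ⊤ : Y.Opens) := ⟨⟨genericPoint Y, trivial⟩⟩
  obtain ⟨n, hn, c, hc⟩ := exists_pow_functionField f (Y.germToFunctionField ⊤ b)
  have h : reg c = ⊤ := by
    ext x
    simp only [Opens.coe_top, Set.mem_univ, iff_true]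
    have := hX x
    obtain ⟨_, ⟨V, hV, rfl⟩, hxV, -⟩ :=
      X.isBasis_affineOpens.exists_subset_of_mem_open (Set.mem_univ x) isOpen_univ
    have : Nonempty V := ⟨⟨_, hxV⟩⟩
    have := nonempty_preimage f V
    obtain ⟨p, hp, hp'⟩ := IsIntegralHom.isIntegral_app f V hV ((Y.presheaf.map (homOfLE le_top).op b) ^ n)
    have h1 : _root_.IsIntegral (X.presheaf.stalk x) c := by
      refine ⟨p.map (X.presheaf.germ V x hxV).hom, hp.map _, ?_⟩
      rw [Polynomial.eval₂_map]
      apply (ffMap f).hom.injective
      rw [map_zero, Polynomial.hom_eval₂]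
      have h2 := congr(Y.germToFunctionField (f ⁻¹ᵁ V) $hp')
      rw [map_zero] at h2
      rw [← h2]
      change _ = (Y.germToFunctionField (f ⁻¹ᵁ V)).hom _
      rw [Polynomial.hom_eval₂]
      congr 1
      · ext a
        change ffMap f (algebraMap (X.presheaf.stalk x) X.functionField (X.presheaf.germ V x hxV a)) =
          Y.germToFunctionField (f ⁻¹ᵁ V) (f.app V a)
        rw [Scheme.algebraMap_germ_eq_germToFunctionField, ffMap_germ]
      · change ffMap f c = Y.germToFunctionField (f ⁻¹ᵁ V) ((Y.presheaf.map (homOfLE le_top).op b) ^ n)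
        rw [hc, map_pow, germ_res]
    exact IsIntegrallyClosed.isIntegral_iff.1 h1
  obtain ⟨s, hs⟩ := exists_section c
  refine ⟨n, hn, X.presheaf.map (homOfLE h.ge).op s, ?_⟩
  apply Scheme.germToFunctionField_injective Y ⊤
  have h1 : X.germToFunctionField ⊤ (X.presheaf.map (homOfLE h.ge).op s) = c := by rw [germ_res]; exact hs
  have h2 := ffMap_germ f ⊤ (X.presheaf.map (homOfLE h.ge).op s)
  rw [h1, hc] at h2
  rw [map_pow, h2]
  rfl

end K496.PInsep
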