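import Groth.Agent.AGF.K495.GModPt2

/-!
# Rational representations of the group of points, of any dimension

* `IsRat ρ`: every orbit map is given by an element of `O ⊗ M`;
* `isRat_rep`, `IsRat.tprod`, `IsRat.sub`, `IsRat.exists_gmod`;
* `isRat_lTrRep`, `isRat_rTrRep`;
* `tIso`: left invariant subalgebras of the coordinate ring.
-/

set_option autoImplicit false
set_option linter.unusedSectionVars false

universe u v w

open CategoryTheory MonoidalCategory CartesianMonoidalCategory MonObj GrpObj AlgebraicGeometry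
open scoped TensorProduct

namespace K496.Rat

open Groth.Agent.Books.AffBridge Groth.Agent.Books.AffBridge2
open Groth.Agent.Sga3B.RG Groth.Agent.Sga3B.RG.BrPts K495.ObsPt K495.Bridge K495.GModPt

noncomputable section

section basic

variable {k : Type u} [Field k] {O : Type u} [CommRing O] [HopfAlgebra k O]
  {M : Type v} [AddCommGroup M] [Module k M] {N : Type w} [AddCommGroup N] [Module k N]

/-- A rational representation of the group of points. -/
def IsRat (ρ : Representation k (Pt k O) M) : Prop :=
  ∀ x : M, ∃ t : O ⊗[k] M, ∀ p : Pt k O, ρ p x = evT M p.ofConv t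

lemma isRat_rep {G : Over (Spec (CommRingCat.of k))} [GrpObj G] (e : G ≅ SpecOver k O)
    [IsMonHom e.hom] (m : VecGrp.GMod G M) : IsRat (rep e m) :=
  fun x => ⟨coact e m x, fun p => rep_apply e m p x⟩

lemma IsRat.of_isCoact {ρ : Representation k (Pt k O) M} {δ : M →ₗ[k] O ⊗[k] M}
    (h : IsCoact ρ δ) : IsRat ρ := fun x => ⟨δ x, fun p => (h p x).symm⟩

/-- Multiplication of the coefficients. -/
def mulT : O ⊗[k] M →ₗ[k] O ⊗[k] N →ₗ[k] O ⊗[k] (M ⊗[k] N) :=
  TensorProduct.map₂ (LinearMap.mul k O) (TensorProduct.mk k M N)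

lemma mulT_tmul (a b : O) (x : M) (y : N) :
    mulT (a ⊗ₜ[k] x) (b ⊗ₜ[k] y) = (a * b) ⊗ₜ (x ⊗ₜ y) := by
  rw [mulT, TensorProduct.map₂_apply_tmul]
  rfl

lemma evT_mulT (p : O →ₐ[k] k) (s : O ⊗[k] M) (t : O ⊗[k] N) :
    evT (M ⊗[k] N) p (mulT s t) = evT M p s ⊗ₜ evT N p t := by
  induction s using TensorProduct.induction_on with
  | zero => simp
  | add s₁ s₂ h₁ h₂ => rw [map_add, LinearMap.add_apply, map_add, h₁, h₂, map_add,
      TensorProduct.add_tmul]
  | tmul a x =>
    induction t using TensorProduct.induction_on with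
    | zero => simp
    | add t₁ t₂ h₁ h₂ => rw [map_add, map_add, h₁, h₂, map_add, TensorProduct.tmul_add]
    | tmul b y =>
      rw [mulT_tmul, evT_tmul, evT_tmul, evT_tmul, map_mul, TensorProduct.smul_tmul_smul]

theorem IsRat.tprod {ρ : Representation k (Pt k O) M} {σ : Representation k (Pt k O) N}
    (hρ : IsRat ρ) (hσ : IsRat σ) : IsRat (ρ.tprod σ) := by
  intro x
  induction x using TensorProduct.induction_on with
  | zero => exact ⟨0, fun p => by rw [map_zero, map_zero]⟩
  | add x y hx hy =>
    obtain ⟨s, hs⟩ := hx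
    obtain ⟨t, ht⟩ := hy
    exact ⟨s + t, fun p => by rw [map_add, map_add, hs, ht]⟩
  | tmul x y =>
    obtain ⟨s, hs⟩ := hρ x
    obtain ⟨t, ht⟩ := hσ y
    refine ⟨mulT s t, fun p => ?_⟩
    rw [evT_mulT, ← hs, ← ht]
    rfl

lemma isRat_of_surjective {ρ : Representation k (Pt k O) M} {σ : Representation k (Pt k O) N}
    (hρ : IsRat ρ) (f : M →ₗ[k] N) (hf : Function.Surjective f)
    (h : ∀ p x, f (ρ p x) = σ p (f x)) : IsRat σ := by
  intro y
  obtain ⟨x, rfl⟩ := hf y
  obtain ⟨t, ht⟩ := hρ x
  refine ⟨f.lTensor O t, fun p => ?_⟩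
  rw [← h, ht]
  induction t using TensorProduct.induction_on generalizing x with
  | zero => simp
  | tmul a m => rw [evT_tmul, LinearMap.lTensor_tmul, evT_tmul, map_smul]
  | add x y hx hy =>
    rename_i x'
    have h1 : ∀ z : O ⊗[k] M, f (evT M p.ofConv z) = evT N p.ofConv (f.lTensor O z) := by
      intro z
      induction z using TensorProduct.induction_on with
      | zero => simp
      | tmul a m => rw [evT_tmul, LinearMap.lTensor_tmul, evT_tmul, map_smul]
      | add x y hx hy => rw [map_add, map_add, hx, hy, map_add, map_add]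
    exact h1 _

end basic

section sub

variable {k : Type u} [Field k] [IsAlgClosed k] {O : Type u} [CommRing O] [HopfAlgebra k O]
  [Algebra.FiniteType k O] [_root_.IsReduced O]
  {M : Type u} [AddCommGroup M] [Module k M] {N : Type u} [AddCommGroup N] [Module k N]

/-- An element of `O ⊗ M` all of whose values lie in `W` lies in `O ⊗ W`. -/
theorem exists_lift_of_evT_mem (W : Submodule k M) (t : O ⊗[k] M)
    (h : ∀ p : Pt k O, evT M p.ofConv t ∈ W) :
    ∃ s : O ⊗[k] W, W.subtype.lTensor O s = t := by
  have h1 : W.mkQ.lTensor O t = 0 := by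
    have h2 : W.mkQ.baseChange O t = 0 := by
      apply evT_ext
      intro p
      rw [evT_baseChange, map_zero]
      have h3 := h (WithConv.toConv p)
      rw [Submodule.mkQ_apply, Submodule.Quotient.mk_eq_zero]
      exact h3
    exact h2
  have h2 : LinearMap.ker (W.mkQ.lTensor O) = LinearMap.range (W.subtype.lTensor O) :=
    lTensor_mkQ O W
  have h3 : t ∈ LinearMap.range (W.subtype.lTensor O) := by
    rw [← h2]
    exact h1
  exact h3

lemma evT_lTensor {V : Type v} [AddCommGroup V] [Module k V] {W : Type w} [AddCommGroup W]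
    [Module k W] (f : V →ₗ[k] W) (p : O →ₐ[k] k) (z : O ⊗[k] V) :
    evT W p (f.lTensor O z) = f (evT V p z) := by
  induction z using TensorProduct.induction_on with
  | zero => simp
  | tmul a m => rw [evT_tmul, LinearMap.lTensor_tmul, evT_tmul, map_smul]
  | add x y hx hy => rw [map_add, map_add, hx, hy, map_add, map_add]

/-- A representation embedded in a rational one is rational. -/
theorem isRat_of_injective {ρ : Representation k (Pt k O) M} {σ : Representation k (Pt k O) N}
    (hρ : IsRat ρ) (f : N →ₗ[k] M) (hf : Function.Injective f)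
    (h : ∀ p x, f (σ p x) = ρ p (f x)) : IsRat σ := by
  intro y
  obtain ⟨t, ht⟩ := hρ (f y)
  obtain ⟨s, hs⟩ := exists_lift_of_evT_mem (LinearMap.range f) t (fun p => by
    rw [← ht, ← h]
    exact ⟨_, rfl⟩)
  let e := LinearEquiv.ofInjective f hf
  refine ⟨e.symm.toLinearMap.lTensor O s, fun p => ?_⟩
  apply hf
  rw [h, ht, ← hs, evT_lTensor, evT_lTensor]
  have h1 : ∀ z : LinearMap.range f, (z : M) = f (e.symm z) := by
    intro z
    have := LinearEquiv.ofInjective_apply (h := hf) f (e.symm z)
    rw [← this]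
    exact congrArg _ (e.apply_symm_apply z).symm
  exact h1 _

theorem IsRat.exists_gmod {G : Over (Spec (CommRingCat.of k))} [GrpObj G] (e : G ≅ SpecOver k O)
    [IsMonHom e.hom] {ρ : Representation k (Pt k O) M} (h : IsRat ρ) :
    ∃ m : VecGrp.GMod G M, rep e m = ρ := exists_gmod_of_rat e ρ h

lemma isRat_lTrRep : IsRat (lTrRep k O) := IsRat.of_isCoact isCoact_coL

lemma isRat_rTrRep : IsRat (rTrRep k O) := IsRat.of_isCoact isCoact_coR

/-- Left translations on the functions right invariant under `H`. -/
def lRep (H : Set (Pt k O)) : Representation k (Pt k O) (rInv H) where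
  toFun p := (lTr p).toLinearMap.restrict (p := (rInv H).toSubmodule) (q := (rInv H).toSubmodule)
    (fun _ hx => lTr_mem_rInv hx p)
  map_one' := by
    ext x
    exact LinearMap.congr_fun (map_one (lTrRep k O)) (x : O)
  map_mul' p q := by
    ext x
    exact LinearMap.congr_fun (map_mul (lTrRep k O) p q) (x : O)

lemma lRep_coe (H : Set (Pt k O)) (p : Pt k O) (x : rInv H) :
    ((lRep H p x : rInv H) : O) = lTr p (x : O) := rfl

lemma isRat_lRep (H : Set (Pt k O)) : IsRat (lRep H) :=
  isRat_of_injective isRat_lTrRep (rInv H).val.toLinearMap Subtype.val_injective (fun _ _ => rfl)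

end sub

end

end K496.Rat
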