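import Groth.Agent.AGF.K496.URDict
import Groth.Agent.AGF.K495.OpenSub
import Groth.Agent.AGF.K492.RedDict
import Groth.Agent.AGF.K501.RadPts
import Groth.Agent.Sga3.H813.Neutral
import Groth.Agent.Sga3B.RG.Rel885

/-!
# Reductive quotients

* `isRedPt_of_ker`: the quotient by a unipotent normal subgroup containing the unipotent radical is
  reductive (no connectedness);
* `isReductiveGrp_of_isRedPt`: `VecGrp.IsReductiveGrp` from the group of points.
-/

set_option autoImplicit false
set_option linter.unusedSectionVars false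

universe u

open CategoryTheory MonoidalCategory CartesianMonoidalCategory MonObj GrpObj AlgebraicGeometry
open scoped TensorProduct

namespace K496.RedImg

open Groth.Agent.Books.AffBridge Groth.Agent.Books.AffBridge2
open Groth.Agent.Sga3B.RG Groth.Agent.Sga3B.RG.BrPts K495.ObsPt K495.Bridge
open Groth.Agent.Agf

section pts

variable {K : Type u} [Field K] [IsAlgClosed K] {A : Type u} [CommRing A] [HopfAlgebra K A]
  [Algebra.FiniteType K A]

/-- The quotient by a unipotent normal subgroup containing the unipotent radical is reductive. -/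
theorem isRedPt_of_ker {C : Type u} [CommRing C] [HopfAlgebra K C] [_root_.IsReduced A]
    (φ : C →ₐc[K] A) (hs : Function.Surjective (Pt.map (K := K) φ))
    (hu : ∀ g ∈ (Pt.map (K := K) φ).ker, IsUnip g)
    (hmax : ∀ M : Subgroup (Pt K A), (M.Normal ∧ IsCl (M : Set (Pt K A)) ∧
      IsConn (M : Set (Pt K A)) ∧ ∀ g ∈ M, IsUnip g) → M ≤ (Pt.map φ).ker) : IsRedPt K C := by
  intro M hMn hMcl hMconn hMu
  have hPcl : IsCl ((M.comap (Pt.map φ) : Subgroup (Pt K A)) : Set (Pt K A)) :=
    hMcl.preimage_map φ
  have hmap : (M.comap (Pt.map φ)).map (Pt.map φ) = M :=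
    Subgroup.map_comap_eq_self_of_surjective hs M
  have hnP : (M.comap (Pt.map φ)).Normal := hMn.comap _
  have hle : idComp (M.comap (Pt.map φ)) ≤ M.comap (Pt.map φ) := idComp_le hPcl
  have h1 : idComp (M.comap (Pt.map φ)) ≤ (Pt.map φ).ker := by
    refine hmax _ ⟨normal_idComp hPcl hnP, isCl_idComp _, isConn_idComp _, ?_⟩
    refine H593.UnipRad.isUnip_of_map_of_ker φ (isCl_idComp _) (isConn_idComp _) ?_ ?_
    · intro g hg
      exact hMu _ (hle hg)
    · intro g _ hg1
      exact hu _ hg1
  have h2 := H593.UnipRad.map_idComp φ hPcl (by rw [hmap]; exact hMconn)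
  rw [hmap] at h2
  rw [← h2, eq_bot_iff]
  rintro _ ⟨x, hx, rfl⟩
  exact h1 hx

end pts

section sch

variable {k : Type u} [Field k] [IsAlgClosed k] {O : Type u} [CommRing O] [HopfAlgebra k O]
  [Algebra.FiniteType k O]
  {G : Over (Spec (CommRingCat.of k))} [GrpObj G] (e : G ≅ SpecOver k O) [IsMonHom e.hom]

include e in
/-- Reductivity of the identity component, from the group of points. -/
theorem isReductiveGrp_of_isRedPt [IsAffine G.left] [Smooth G.hom] (h : IsRedPt k O) :
    VecGrp.IsReductiveGrp k G := by
  have hred : _root_.IsReduced O :=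
    (smooth_iff (K := k) O).1 (H614.AlgDict.smooth_of_iso e)
  refine ⟨inferInstance, inferInstance, ?_⟩
  obtain ⟨G₀, _, u, hu, huo, -, hsm, -, -, hirr⟩ := Groth.Agent.Sga3.H813.Neutral.exists_neutral G
  refine ⟨G₀, inferInstance, u, hu, huo, ?_⟩
  have hcl : IsClosedImmersion u.left := K495.OpenSub.isClosedImmersion_of_open u
  obtain ⟨C, _, _, e', he', φ, hft, hredC, hφ, hi⟩ := exists_hom_data e u
  have hirr' : IrreducibleSpace G₀.left := by
    have h1 : Subsingleton ((Functor.fromPUnit (Spec (CommRingCat.of k))).obj G₀.right) :=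
      inferInstanceAs (Subsingleton (PrimeSpectrum k))
    have h2 : Nonempty ((Functor.fromPUnit (Spec (CommRingCat.of k))).obj G₀.right) :=
      inferInstanceAs (Nonempty (PrimeSpectrum k))
    exact GeometricallyIrreducible.irreducibleSpace_of_subsingleton (f := G₀.hom)
  have hconn : ConnectedSpace G₀.left := inferInstance
  have hdom : IsDomain C := by
    have h1 : Smooth (SpecOver k C).hom := Groth.Agent.Agf.H614.AlgDict.smooth_of_iso e'
    refine (isDomain_iff (K := k) C).1 ⟨h1, ?_⟩
    have h2 : IsIso e'.hom.left := (Over.forget _).map_isIso e'.hom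
    exact (Scheme.homeoOfIso (asIso e'.hom.left)).surjective.connectedSpace
      (Scheme.homeoOfIso (asIso e'.hom.left)).continuous
  have hrange := psub_eq_range e u e' φ hi
  -- the subgroup is the identity component
  have hNcl : IsCl ((Pt.map (K := k) φ).range : Set (Pt k O)) := Pt.isCl_range_map hφ
  have hNconn : IsConn ((Pt.map (K := k) φ).range : Set (Pt k O)) := by
    have h1 := (isConn_univ (K := k) (A := C)).image_map φ
    rw [Set.image_univ] at h1
    exact h1
  have hidx : (Pt.map (K := k) φ).range.index ≠ 0 := by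
    have h1 := K495.OpenSub.isCl_compl_psub e u
    rw [hrange] at h1
    exact K495.OpenSub.index_ne_zero h1
  have hN : (Pt.map (K := k) φ).range = idComp (⊤ : Subgroup (Pt k O)) := by
    have h1 : (Pt.map (K := k) φ).range ≤ idComp (⊤ : Subgroup (Pt k O)) :=
      le_idComp hNconn le_top
    refine (isConn_idComp (⊤ : Subgroup (Pt k O))).eq_of_finiteIndex hNcl h1 ?_
    intro h2
    exact hidx (Nat.eq_zero_of_zero_dvd
      (h2 ▸ Subgroup.relIndex_dvd_index_of_le h1))
  have hnormal : (Pt.map (K := k) φ).range.Normal := by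
    rw [hN]
    exact normal_idComp (by rw [Subgroup.coe_top]; exact isCl_univ) inferInstance
  have hredC : IsRedPt k C :=
    (isRedSub_range_iff hφ).1 (K501.RadPts.isRedSub_of_normal h hNcl hnormal)
  exact (K492.RedDict.isReductiveOver_iff' e').2 ⟨hdom, hredC⟩

end sch

end K496.RedImg
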