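import Groth.Agent.AGF.K496.Transfer
import Groth.Agent.AGF.K495.ObsMore

/-!
# Reductive subgroups are observable

`resR e i`: the coordinate ring of `G` as an `H`-module under right translations.
-/

set_option autoImplicit false
set_option linter.unusedSectionVars false

universe u v w

open CategoryTheory MonoidalCategory CartesianMonoidalCategory MonObj GrpObj AlgebraicGeometry
open scoped TensorProduct Pointwise

namespace K496.RedObs

open Groth.Agent.Books.AffBridge Groth.Agent.Books.AffBridge2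
open Groth.Agent.Sga3B.RG Groth.Agent.Sga3B.RG.BrPts K495.ObsPt K495.Bridge K495.GModPt

variable {k : Type u} [Field k] [IsAlgClosed k] {O : Type u} [CommRing O] [HopfAlgebra k O]
  [Algebra.FiniteType k O] [_root_.IsReduced O]
  {G : Over (Spec (CommRingCat.of k))} [GrpObj G] (e : G ≅ SpecOver k O) [IsMonHom e.hom]
  {C : Type u} [CommRing C] [HopfAlgebra k C] [Algebra.FiniteType k C] [_root_.IsReduced C]
  {H : Over (Spec (CommRingCat.of k))} [GrpObj H]
  (e' : H ≅ SpecOver k C) [IsMonHom e'.hom] (i : H ⟶ G) [IsMonHom i]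
  (φ : O →ₐc[k] C) (hφ : i ≫ e.hom = e'.hom ≫ specMap k (φ : O →ₐ[k] C))

include hφ in
lemma rep_res_regR (p : Pt k C) : rep e' (res i (regR e)) p = rTrRep k O (Pt.map φ p) := by
  rw [rep_res e e' i φ hφ, rep_regR]

include hφ in
lemma isMult_res : (res i (regR e)).IsMult := by
  rw [isMult_iff e']
  intro p
  rw [rep_res_regR e e' i φ hφ]
  exact K496.Transfer.isMulRep_rTrRep _

include hφ in
/-- The invariants of `H` on the coordinate ring of `G`. -/
lemma mem_fixedUnder_res (x : O) : x ∈ (res i (regR e)).fixedUnder (𝟙 H) ↔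
    x ∈ rInv ((Pt.map (K := k) φ).range : Set (Pt k O)) := by
  rw [mem_fixedUnder_id_iff e', mem_rInv_iff_rTr]
  constructor
  · rintro h _ ⟨p, rfl⟩
    have h1 := h p
    rw [rep_res_regR e e' i φ hφ] at h1
    exact h1
  · intro h p
    rw [rep_res_regR e e' i φ hφ]
    exact h _ ⟨p, rfl⟩

include hφ in
/-- Ideals of right stable sets are stable. -/
lemma isStable_vanIdeal {X : Set (Pt k O)} (hX : ∀ x ∈ X, ∀ p : Pt k C, x * Pt.map φ p ∈ X) :
    (res i (regR e)).IsStable (𝟙 H) ((vanIdeal X).restrictScalars k) := by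
  rw [isStable_id_iff _ e']
  intro p a ha x hx
  rw [rep_res_regR e e' i φ hφ]
  have h1 : x (rTr (Pt.map φ p) a) = 0 := by
    rw [rTr_apply_pt]
    exact ha _ (hX x hx p)
  exact h1

include e' hφ in
/-- **Reductive subgroups are observable.** -/
theorem isObs (hH : VecGrp.IsReductiveGrp k H) (thm : AGF.ReductiveQuotSeparates k)
    (hsurj : Function.Surjective φ) : IsObs (Pt.map (K := k) φ).range := by
  intro g hg
  by_contra hne
  have hcl : IsCl ((Pt.map (K := k) φ).range : Set (Pt k O)) := Pt.isCl_range_map hsurj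
  set R : Subgroup (Pt k O) := (Pt.map (K := k) φ).range with hR
  have hdisj : Disjoint (R : Set (Pt k O)) (g • (R : Set (Pt k O))) := by
    rw [Set.disjoint_left]
    intro x hx hx'
    rw [Set.mem_smul_set_iff_inv_smul_mem] at hx'
    have h1 : g⁻¹ ∈ R := by
      have := R.mul_mem hx' (R.inv_mem hx)
      rwa [smul_eq_mul, mul_inv_cancel_right] at this
    exact hne (by simpa using R.inv_mem h1)
  have hsup : vanIdeal (R : Set (Pt k O)) ⊔ vanIdeal (g • (R : Set (Pt k O))) = ⊤ := by
    by_contra hne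
    obtain ⟨f, hf⟩ := exists_algHom_of_ne_top (K := k) hne
    have h2 : (WithConv.toConv f : Pt k O) ∈ (R : Set (Pt k O)) :=
      hcl fun a ha => hf a (Ideal.mem_sup_left ha)
    have h3 : (WithConv.toConv f : Pt k O) ∈ g • (R : Set (Pt k O)) :=
      (hcl.smul g) fun a ha => hf a (Ideal.mem_sup_right ha)
    exact Set.disjoint_left.1 hdisj h2 h3
  have h1 := thm H hH O (res i (regR e)) (isMult_res e e' i φ hφ) inferInstance
    (vanIdeal (R : Set (Pt k O))) (vanIdeal (g • (R : Set (Pt k O))))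
    (vanIdeal_isRadical _) (vanIdeal_isRadical _)
    (isStable_vanIdeal e e' i φ hφ fun x hx p => R.mul_mem hx ⟨p, rfl⟩)
    (isStable_vanIdeal e e' i φ hφ fun x hx p => by
      rw [Set.mem_smul_set_iff_inv_smul_mem] at hx ⊢
      rw [smul_eq_mul, ← _root_.mul_assoc]
      exact R.mul_mem hx ⟨p, rfl⟩) hsup
  rw [Ideal.eq_top_iff_one] at h1
  obtain ⟨a, ha, b, hb, hab⟩ := Submodule.mem_sup.1 h1
  have hbR : (b : O) ∈ rInv (R : Set (Pt k O)) :=
    (mem_fixedUnder_res e e' i φ hφ _).1 b.2
  have ha1 : (1 : Pt k O) (a : O) = 0 := ha 1 R.one_mem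
  have hb0 : g (b : O) = 0 := hb g ⟨1, R.one_mem, mul_one g⟩
  have hab' : (a : O) + (b : O) = 1 := congrArg Subtype.val hab
  have hb1 : (1 : Pt k O) (b : O) = 1 := by
    have := Pt.apply_one (1 : Pt k O)
    rwa [← hab', Pt.apply_add, ha1, zero_add] at this
  have h2 := inHull_iff.1 hg (b : O) hbR
  rw [hb0, hb1] at h2
  exact zero_ne_one h2

include e' hφ in
/-- **Reductive subgroups are Grosshans subgroups.** -/
theorem fg_rInv (hH : VecGrp.IsReductiveGrp k H) (thmA : VecGrp.ReductiveInvariantsFG k) :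
    (rInv ((Pt.map (K := k) φ).range : Set (Pt k O))).FG := by
  obtain ⟨s, hs, hs'⟩ := thmA H hH O (res i (regR e)) (isMult_res e e' i φ hφ) inferInstance
  refine ⟨s, le_antisymm ?_ ?_⟩
  · rw [Algebra.adjoin_le_iff]
    intro x hx
    exact (mem_fixedUnder_res e e' i φ hφ x).1 (hs hx)
  · intro x hx
    exact hs' ((mem_fixedUnder_res e e' i φ hφ x).2 hx)

end K496.RedObs
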