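import Groth.Agent.AGF.K496.ConeInt
import Groth.Agent.Sga3B.RG.TrigTorus
import Groth.Agent.Sga3B.RG.SolvLine
import Groth.Agent.Sga3B.RG.DynRel

/-!
# Semi-invariants of a connected solvable subgroup

`H` a closed connected subgroup of the group of points of `A`, trigonalizable.  For a character `χ`
of `H` (a group-like element of `A / I(H)`), `S χ` is the space of `f` with `f(xh) = χ(h) f(x)`.

* `S_mul`, `S_indep`;
* `exists_decomp`: functions invariant under right translation by the unipotent elements of `H` are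
  sums of semi-invariants.
-/

set_option autoImplicit false
set_option linter.unusedSectionVars false

universe u

open WithConv TensorProduct Coalgebra

namespace K496.Semi

open Groth.Agent.Sga3B.RG Groth.Agent.Sga3B.Parab.BorelPts172 K496.ConeInt
open Groth.Agent.Sga3B.RG.Trig Groth.Agent.Sga3B.RG.TrigTorus

variable {K : Type u} [Field K] [IsAlgClosed K] {A : Type u} [CommRing A] [HopfAlgebra K A]
  [Algebra.FiniteType K A]

section basic

variable [IsReduced A] (H : Subgroup (Pt K A))

/-- A function on the big group restricting to the character `χ` on `H`. -/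
noncomputable def lft (χ : GroupLike K (A ⧸ vanIdeal (H : Set (Pt K A)))) : A :=
  (Ideal.Quotient.mk_surjective χ.val).choose

lemma mk_lft (χ : GroupLike K (A ⧸ vanIdeal (H : Set (Pt K A)))) :
    Ideal.Quotient.mk (vanIdeal (H : Set (Pt K A))) (lft H χ) = χ.val :=
  (Ideal.Quotient.mk_surjective χ.val).choose_spec

lemma quotMap_lft (x : Pt K (A ⧸ vanIdeal (H : Set (Pt K A))))
    (χ : GroupLike K (A ⧸ vanIdeal (H : Set (Pt K A)))) :
    quotMap (vanIdeal (H : Set (Pt K A))) x (lft H χ) = x χ.val := by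
  rw [quotMap_apply, mk_lft]

variable {H} (hcl : IsCl (H : Set (Pt K A)))

include hcl

lemma lft_mul_pt {b b' : Pt K A} (hb : b ∈ H) (hb' : b' ∈ H)
    (χ : GroupLike K (A ⧸ vanIdeal (H : Set (Pt K A)))) :
    (b * b') (lft H χ) = b (lft H χ) * b' (lft H χ) := by
  obtain ⟨x, rfl⟩ := exists_quotMap_eq hcl hb
  obtain ⟨y, rfl⟩ := exists_quotMap_eq hcl hb'
  rw [← map_mul, quotMap_lft, quotMap_lft, quotMap_lft, groupLike_mul]

lemma one_lft (χ : GroupLike K (A ⧸ vanIdeal (H : Set (Pt K A)))) :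
    (1 : Pt K A) (lft H χ) = 1 := by
  rw [← map_one (quotMap (vanIdeal (H : Set (Pt K A)))), quotMap_lft, groupLike_one]

lemma lft_one {b : Pt K A} (hb : b ∈ H) : b (lft H 1) = 1 := by
  obtain ⟨x, rfl⟩ := exists_quotMap_eq hcl hb
  rw [quotMap_lft]
  exact map_one x.ofConv

lemma lft_mul {b : Pt K A} (hb : b ∈ H) (χ χ' : GroupLike K (A ⧸ vanIdeal (H : Set (Pt K A)))) :
    b (lft H (χ * χ')) = b (lft H χ) * b (lft H χ') := by
  obtain ⟨x, rfl⟩ := exists_quotMap_eq hcl hb
  rw [quotMap_lft, quotMap_lft, quotMap_lft]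
  exact map_mul x.ofConv _ _

lemma lft_ne_zero {b : Pt K A} (hb : b ∈ H) (χ : GroupLike K (A ⧸ vanIdeal (H : Set (Pt K A)))) :
    b (lft H χ) ≠ 0 := by
  intro h0
  have h1 := lft_mul hcl hb χ χ⁻¹
  rw [mul_inv_cancel, lft_one hcl hb, h0, zero_mul] at h1
  exact one_ne_zero h1

lemma lft_injective {χ χ' : GroupLike K (A ⧸ vanIdeal (H : Set (Pt K A)))}
    (h : ∀ b ∈ H, b (lft H χ) = b (lft H χ')) : χ = χ' := by
  apply GroupLike.val_injective
  rw [← mk_lft, ← mk_lft, ← sub_eq_zero, ← map_sub, Ideal.Quotient.eq_zero_iff_mem]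
  intro b hb
  rw [Pt.apply_sub, h b hb, sub_self]

/-- The character of `H` as a monoid homomorphism. -/
noncomputable def chr (χ : GroupLike K (A ⧸ vanIdeal (H : Set (Pt K A)))) : H →* K where
  toFun b := (b : Pt K A) (lft H χ)
  map_one' := one_lft hcl χ
  map_mul' b b' := lft_mul_pt hcl b.2 b'.2 χ

lemma chr_injective : Function.Injective (chr hcl) := by
  intro χ χ' h
  exact lft_injective hcl fun b hb => DFunLike.congr_fun h ⟨b, hb⟩

omit hcl in
variable (H) in
/-- The space of semi-invariants. -/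
def S (χ : GroupLike K (A ⧸ vanIdeal (H : Set (Pt K A)))) : Submodule K A where
  carrier := {f | IsSemi (H : Set (Pt K A)) (lft H χ) f}
  add_mem' := by
    intro a b ha hb x y hy
    rw [Pt.apply_add, Pt.apply_add, ha x y hy, hb x y hy, add_mul]
  zero_mem' := by
    intro x y _
    rw [Pt.apply_zero, Pt.apply_zero, zero_mul]
  smul_mem' := by
    intro c a ha x y hy
    rw [Pt.apply_smul, Pt.apply_smul, ha x y hy, mul_assoc]

omit hcl in
lemma mem_S {χ : GroupLike K (A ⧸ vanIdeal (H : Set (Pt K A)))} {f : A} :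
    f ∈ S H χ ↔ ∀ x : Pt K A, ∀ b ∈ H, (x * b) f = x f * b (lft H χ) := Iff.rfl

lemma S_mul {χ χ' : GroupLike K (A ⧸ vanIdeal (H : Set (Pt K A)))} {f f' : A} (hf : f ∈ S H χ)
    (hf' : f' ∈ S H χ') : f * f' ∈ S H (χ * χ') := by
  intro x b hb
  rw [Pt.apply_mul, Pt.apply_mul, hf x b hb, hf' x b hb, lft_mul hcl hb]
  ring

lemma one_mem_S : (1 : A) ∈ S H 1 := by
  intro x b hb
  rw [Pt.apply_one, Pt.apply_one, lft_one hcl hb, one_mul]

/-- Semi-invariants with different characters are linearly independent. -/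
lemma S_indep (s : Finset (GroupLike K (A ⧸ vanIdeal (H : Set (Pt K A)))))
    (c : GroupLike K (A ⧸ vanIdeal (H : Set (Pt K A))) → A) (hc : ∀ χ ∈ s, c χ ∈ S H χ)
    (h : ∑ χ ∈ s, c χ = 0) : ∀ χ ∈ s, c χ = 0 := by
  intro χ hχ
  refine eq_zero_of_forall_pt (K := K) fun x => ?_
  have h1 := (linearIndependent_monoidHom H K).comp (chr hcl) (chr_injective hcl)
  rw [linearIndependent_iff'] at h1
  refine h1 s (fun χ => x (c χ)) ?_ χ hχ
  funext b
  rw [Finset.sum_apply]
  have h2 : ((x * b : Pt K A)) (∑ χ ∈ s, c χ) = 0 := by rw [h, Pt.apply_zero]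
  rw [Pt.apply_sum] at h2
  rw [Pi.zero_apply, ← h2]
  refine Finset.sum_congr rfl fun χ hχ => ?_
  rw [hc χ hχ x b b.2]
  rfl

omit hcl in
/-- Left translates of semi-invariants. -/
lemma lTr_mem_S {χ : GroupLike K (A ⧸ vanIdeal (H : Set (Pt K A)))} {f : A} (hf : f ∈ S H χ)
    (g : Pt K A) : lTr g f ∈ S H χ := by
  intro x b hb
  rw [lTr_apply_pt, lTr_apply_pt, ← mul_assoc, hf _ b hb]

end basic

section coact

variable {M : Type} [CommGroup M]

omit [IsAlgClosed K] [Algebra.FiniteType K A] in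
/-- Translation by points of a diagonalizable group. -/
theorem exists_coact (ϖ : A →ₐc[K] MonoidAlgebra K M) (f : A) :
    ∃ (s : Finset M) (c : M → A), ∀ (x : Pt K A) (t : M →* Kˣ),
      (x * Pt.map ϖ (torPt M t)) f = ∑ m ∈ s, x (c m) * (t m : K) := by
  classical
  suffices h : ∀ z : A ⊗[K] A, ∃ (s : Finset M) (c : M → A), (∀ m, m ∉ s → c m = 0) ∧
      ∀ (x : Pt K A) (t : M →* Kˣ),
      Algebra.TensorProduct.lift x.ofConv (Pt.map ϖ (torPt M t)).ofConv (fun _ _ ↦ .all ..) z =
        ∑ m ∈ s, x (c m) * (t m : K) by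
    obtain ⟨s, c, -, h⟩ := h (comul (R := K) f)
    exact ⟨s, c, fun x t => (Pt.mul_apply _ _ _).trans (h x t)⟩
  intro z
  induction z with
  | zero => exact ⟨∅, 0, fun _ _ => rfl, fun x t => by simp⟩
  | tmul a b =>
    refine ⟨(ϖ b).coeff.support, fun m => (ϖ b).coeff m • a, fun m hm => ?_, fun x t => ?_⟩
    · change (ϖ b).coeff m • a = 0
      rw [Finsupp.notMem_support_iff.1 hm, zero_smul]
    · rw [Algebra.TensorProduct.lift_tmul]
      have h1 : (Pt.map ϖ (torPt M t)).ofConv b = (torPt M t : Pt K (MonoidAlgebra K M)) (ϖ b) :=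
        rfl
      have h2 : ϖ b = ∑ m ∈ (ϖ b).coeff.support, MonoidAlgebra.single m ((ϖ b).coeff m) := by
        apply MonoidAlgebra.coeff_injective
        ext1 g
        rw [MonoidAlgebra.coeff_sum, Finsupp.finsetSum_apply]
        simp only [MonoidAlgebra.coeff_single, Finsupp.single_apply, Finset.sum_ite_eq',
          Finsupp.mem_support_iff, ne_eq, ite_not]
        split_ifs with h <;> simp [h]
      rw [h1]
      conv_lhs => rw [h2]
      rw [Pt.apply_sum, Finset.mul_sum]
      refine Finset.sum_congr rfl fun m _ => ?_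
      rw [torPt_single, Pt.apply_smul]
      change x a * _ = _
      ring
  | add z w hz hw =>
    obtain ⟨s, c, hc, h⟩ := hz
    obtain ⟨s', c', hc', h'⟩ := hw
    refine ⟨s ∪ s', c + c', fun m hm => ?_, fun x t => ?_⟩
    · rw [Finset.notMem_union] at hm
      rw [Pi.add_apply, hc m hm.1, hc' m hm.2, add_zero]
    · rw [map_add, h, h']
      have h1 : ∑ m ∈ s, x (c m) * (t m : K) = ∑ m ∈ s ∪ s', x (c m) * (t m : K) := by
        refine Finset.sum_subset Finset.subset_union_left fun m _ hm => ?_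
        rw [hc m hm, Pt.apply_zero, zero_mul]
      have h2 : ∑ m ∈ s', x (c' m) * (t m : K) = ∑ m ∈ s ∪ s', x (c' m) * (t m : K) := by
        refine Finset.sum_subset Finset.subset_union_right fun m _ hm => ?_
        rw [hc' m hm, Pt.apply_zero, zero_mul]
      rw [h1, h2, ← Finset.sum_add_distrib]
      refine Finset.sum_congr rfl fun m _ => ?_
      rw [Pi.add_apply, Pt.apply_add, add_mul]

end coact

section decomp

variable [IsReduced A] {H : Subgroup (Pt K A)}

/-- **Weight decomposition of the functions invariant under the unipotent elements of `H`.** -/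
theorem exists_decomp (hcl : IsCl (H : Set (Pt K A))) (hconn : IsConn (H : Set (Pt K A)))
    (htrig : IsTrig K (A ⧸ vanIdeal (H : Set (Pt K A)))) {f : A}
    (hf : ∀ x : Pt K A, ∀ u ∈ H, IsUnip u → (x * u) f = x f) :
    ∃ (s : Finset (GroupLike K (A ⧸ vanIdeal (H : Set (Pt K A)))))
      (c : GroupLike K (A ⧸ vanIdeal (H : Set (Pt K A))) → A), (∀ χ ∈ s, c χ ∈ S H χ) ∧
      f = ∑ χ ∈ s, c χ := by
  classical
  have hdom : IsDomain (A ⧸ vanIdeal (H : Set (Pt K A))) := isDomain_quot_of_isConn hconn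
  obtain ⟨r, e, π, hπs, hπ⟩ := exists_torusMap htrig
  let q : A →ₐc[K] (A ⧸ vanIdeal (H : Set (Pt K A))) := Bialgebra.Quotient.mkBialgHom _
  obtain ⟨s, c, hc⟩ := exists_coact (π.comp q) f
  have hmapq : ∀ y, Pt.map (π.comp q) y = quotMap (vanIdeal (H : Set (Pt K A))) (Pt.map π y) :=
    fun y => rfl
  refine ⟨s.map e.symm.toEquiv.toEmbedding, fun χ => c (e χ), ?_, ?_⟩
  · intro χ hχ
    rw [Finset.mem_map] at hχ
    obtain ⟨m, hm, rfl⟩ := hχ
    change c (e (e.symm m)) ∈ S H (e.symm m)
    rw [MulEquiv.apply_symm_apply]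
    intro x b hb
    obtain ⟨y, rfl⟩ := exists_quotMap_eq hcl hb
    set u' := (sPart e π y)⁻¹ * y with hu'
    have hu'G : u' ∈ Gu K (A ⧸ vanIdeal (H : Set (Pt K A))) := uPart_mem hπ y
    have hunip : IsUnip (quotMap (vanIdeal (H : Set (Pt K A))) u') :=
      BrRed.isUnip_map _ ((isUnip_iff htrig _).2 hu'G)
    have hy : y = sPart e π y * u' := by rw [hu', mul_inv_cancel_left]
    have hkey : ∀ t : Multiplicative (Fin r → ℤ) →* Kˣ,
        ∑ m ∈ s, (x * quotMap (vanIdeal (H : Set (Pt K A))) y) (c m) * (t m : K) =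
          ∑ m ∈ s, (x (c m) * ((charHom e y m : Kˣ) : K)) * (t m : K) := by
      intro t
      rw [← hc]
      set τ := Pt.map (π.comp q) (torPt _ t) with hτ
      set σ := Pt.map (π.comp q) (torPt _ (charHom e y)) with hσ
      have hτH : τ ∈ H := by rw [hτ, hmapq]; exact quotMap_mem hcl _
      have h1 : x * quotMap (vanIdeal (H : Set (Pt K A))) y * τ =
          (x * (σ * τ)) * (τ⁻¹ * quotMap (vanIdeal (H : Set (Pt K A))) u' * τ) := by
        have h2 : quotMap (vanIdeal (H : Set (Pt K A))) y =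
            σ * quotMap (vanIdeal (H : Set (Pt K A))) u' := by
          conv_lhs => rw [hy]
          rw [map_mul]
          rfl
        rw [h2]
        group
      rw [h1, hf]
      · rw [hσ, hτ, ← map_mul, ← map_mul, hc]
        refine Finset.sum_congr rfl fun m _ => ?_
        rw [MonoidHom.mul_apply, Units.val_mul]
        ring
      · exact H.mul_mem (H.mul_mem (H.inv_mem hτH) (quotMap_mem hcl _)) hτH
      · have h3 := hunip.conj τ⁻¹
        rwa [inv_inv] at h3
    have hlin := (linearIndependent_monoidHom (Multiplicative (Fin r → ℤ) →* Kˣ) K).comp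
      (torChar K (Multiplicative (Fin r → ℤ))) (torChar_injective (K := K) r)
    rw [linearIndependent_iff'] at hlin
    have h4 := hlin s (fun m => (x * quotMap (vanIdeal (H : Set (Pt K A))) y) (c m) -
      x (c m) * ((charHom e y m : Kˣ) : K)) (by
        funext t
        rw [Finset.sum_apply, Pi.zero_apply]
        have h5 := hkey t
        rw [← sub_eq_zero, ← Finset.sum_sub_distrib] at h5
        rw [← h5]
        refine Finset.sum_congr rfl fun m _ => ?_
        simp only [Pi.smul_apply, Function.comp_apply, torChar_apply, smul_eq_mul]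
        ring) m hm
    have h6 := sub_eq_zero.1 h4
    rw [h6, quotMap_lft, charHom_apply]
  · rw [Finset.sum_map]
    refine eq_of_forall_pt (K := K) fun x => ?_
    have h1 := hc x 1
    rw [map_one, map_one, mul_one] at h1
    rw [h1, Pt.apply_sum]
    refine Finset.sum_congr rfl fun m _ => ?_
    change _ = x (c (e (e.symm m)))
    rw [MulEquiv.apply_symm_apply]
    simp

end decomp

end K496.Semi
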