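import Groth.Agent.AGF.K496.Rat
import Groth.Agent.AGF.K496.FGBridge

/-!
# The transfer principle: `A^H` is a quotient of `(A ⊗ k[G]^H)^G`

* `IsMulRep`, `fixS`;
* `FGInv k O`: finite generation of invariants for the group of points of `O`; `fgInv_of_thmA`;
* `fg_fixS_of_fg_rInv`: if `k[G]^H` is finitely generated, so is `A^H` for every rational algebra `A`.
-/

set_option autoImplicit false
set_option linter.unusedSectionVars false

universe u v w

open CategoryTheory MonoidalCategory CartesianMonoidalCategory MonObj GrpObj AlgebraicGeometry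
open scoped TensorProduct

namespace K496.Transfer

open Groth.Agent.Books.AffBridge Groth.Agent.Books.AffBridge2
open Groth.Agent.Sga3B.RG Groth.Agent.Sga3B.RG.BrPts K495.ObsPt K495.Bridge K495.GModPt
open K496.Rat

noncomputable section

section basic

variable {k : Type u} [Field k] {Γ : Type u} [Group Γ] {R : Type u} [CommRing R] [Algebra k R]

/-- A representation by algebra automorphisms. -/
def IsMulRep (ρ : Representation k Γ R) : Prop :=
  ∀ p : Γ, (∀ x y : R, ρ p (x * y) = ρ p x * ρ p y) ∧ ρ p 1 = 1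

/-- The elements fixed by a subset. -/
def fixS (ρ : Representation k Γ R) (hρ : IsMulRep ρ) (H : Set Γ) : Subalgebra k R where
  carrier := {x | ∀ p ∈ H, ρ p x = x}
  mul_mem' {a b} ha hb p hp := by rw [(hρ p).1, ha p hp, hb p hp]
  one_mem' p _ := (hρ p).2
  add_mem' {a b} ha hb p hp := by rw [map_add, ha p hp, hb p hp]
  zero_mem' p _ := map_zero _
  algebraMap_mem' c p _ := by
    rw [Algebra.algebraMap_eq_smul_one, map_smul, (hρ p).2]

lemma mem_fixS {ρ : Representation k Γ R} {hρ : IsMulRep ρ} {H : Set Γ} {x : R} :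
    x ∈ fixS ρ hρ H ↔ ∀ p ∈ H, ρ p x = x := Iff.rfl

lemma fixS_anti {ρ : Representation k Γ R} {hρ : IsMulRep ρ} {H H' : Set Γ} (h : H ⊆ H') :
    fixS ρ hρ H' ≤ fixS ρ hρ H := fun _ hx p hp => hx p (h hp)

/-- The algebra automorphism of a point. -/
def IsMulRep.hom {ρ : Representation k Γ R} (hρ : IsMulRep ρ) (p : Γ) : R →ₐ[k] R :=
  AlgHom.ofLinearMap (ρ p) (hρ p).2 (hρ p).1

lemma IsMulRep.hom_apply {ρ : Representation k Γ R} (hρ : IsMulRep ρ) (p : Γ) (x : R) :
    hρ.hom p x = ρ p x := rfl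

variable {R' : Type u} [CommRing R'] [Algebra k R']

lemma IsMulRep.tprod {ρ : Representation k Γ R} {σ : Representation k Γ R'} (hρ : IsMulRep ρ)
    (hσ : IsMulRep σ) : IsMulRep (ρ.tprod σ) := by
  intro p
  have h : ∀ z, (ρ.tprod σ) p z = Algebra.TensorProduct.map (hρ.hom p) (hσ.hom p) z :=
    fun z => rfl
  refine ⟨fun x y => ?_, ?_⟩
  · rw [h, h, h, map_mul]
  · rw [h, map_one]

end basic

section pts

variable (k : Type u) [Field k] (O : Type u) [CommRing O] [HopfAlgebra k O]

/-- Finite generation of invariants for the group of points of `O`. -/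
def FGInv : Prop := ∀ (R : Type u) [CommRing R] [Algebra k R] [Algebra.FiniteType k R]
  (ρ : Representation k (Pt k O) R) (hρ : IsMulRep ρ), IsRat ρ → (fixS ρ hρ Set.univ).FG

variable {k O} [IsAlgClosed k] [Algebra.FiniteType k O] [_root_.IsReduced O]

theorem fgInv_of_thmA {G : Over (Spec (CommRingCat.of k))} [GrpObj G]
    (e : G ≅ SpecOver k O) [IsMonHom e.hom] (hG : VecGrp.IsReductiveGrp k G)
    (thmA : VecGrp.ReductiveInvariantsFG k) : FGInv k O := by
  intro R _ _ _ ρ hρ hrat
  obtain ⟨m, hm⟩ := hrat.exists_gmod e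
  have hmul : m.IsMult := by
    rw [isMult_iff e]
    intro p
    rw [hm]
    exact hρ p
  obtain ⟨s, hs, hs'⟩ := thmA G hG R m hmul inferInstance
  have hmem : ∀ x, x ∈ fixS ρ hρ Set.univ ↔ x ∈ m.fixedUnder (𝟙 G) := by
    intro x
    rw [mem_fixedUnder_id_iff e, mem_fixS, hm]
    exact ⟨fun h p => h p (Set.mem_univ _), fun h p _ => h p⟩
  refine ⟨s, le_antisymm ?_ ?_⟩
  · rw [Algebra.adjoin_le_iff]
    intro x hx
    exact (hmem x).2 (hs hx)
  · intro x hx
    exact hs' ((hmem x).1 hx)

variable {R : Type u} [CommRing R] [Algebra k R]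

lemma isMulRep_lRep (H : Set (Pt k O)) : IsMulRep (lRep H) := by
  intro p
  refine ⟨fun x y => Subtype.ext ?_, Subtype.ext ?_⟩
  · exact map_mul (lTr p) (x : O) (y : O)
  · exact map_one (lTr p)

/-- Evaluation of the second factor at a point. -/
def evS (H : Set (Pt k O)) (p : Pt k O) : R ⊗[k] rInv H →ₐ[k] R :=
  Algebra.TensorProduct.lift (AlgHom.id k R)
    ((Algebra.ofId k R).comp (p.ofConv.comp (rInv H).val)) fun _ _ => Commute.all _ _

lemma evS_tmul (H : Set (Pt k O)) (p : Pt k O) (r : R) (f : rInv H) :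
    evS H p (r ⊗ₜ f) = p (f : O) • r := by
  rw [evS, Algebra.TensorProduct.lift_tmul, Algebra.smul_def, mul_comm]
  rfl

lemma evS_tprod (ρ : Representation k (Pt k O) R) (H : Set (Pt k O)) (g p : Pt k O)
    (z : R ⊗[k] rInv H) : evS H p ((ρ.tprod (lRep H)) g z) = ρ g (evS H (g⁻¹ * p) z) := by
  induction z using TensorProduct.induction_on with
  | zero => simp
  | add x y hx hy => rw [map_add, map_add, hx, hy, map_add, map_add]
  | tmul r f =>
    have h1 : (ρ.tprod (lRep H)) g (r ⊗ₜ f) = ρ g r ⊗ₜ lRep H g f := rfl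
    rw [h1, evS_tmul, evS_tmul, lRep_coe, map_smul]
    congr 1
    exact lTr_apply_pt g p (f : O)

lemma evS_mem (H : Set (Pt k O)) (p h : Pt k O) (hh : h ∈ H) (z : R ⊗[k] rInv H) :
    evS H (p * h) z = evS H p z := by
  induction z using TensorProduct.induction_on with
  | zero => simp
  | add x y hx hy => rw [map_add, map_add, hx, hy]
  | tmul r f =>
    rw [evS_tmul, evS_tmul]
    congr 1
    exact f.2 p h hh

lemma evS_eq_evT (H : Set (Pt k O)) (p : Pt k O) (z : R ⊗[k] rInv H) :
    evS H p z = evT R p.ofConv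
      (TensorProduct.comm k R O ((rInv H).val.toLinearMap.lTensor R z)) := by
  induction z using TensorProduct.induction_on with
  | zero => simp
  | add x y hx hy => rw [map_add, map_add, map_add, map_add, hx, hy]
  | tmul r f =>
    rw [evS_tmul, LinearMap.lTensor_tmul, TensorProduct.comm_tmul, evT_tmul]
    rfl

lemma evS_ext (H : Set (Pt k O)) {z z' : R ⊗[k] rInv H} (h : ∀ p, evS H p z = evS H p z') :
    z = z' := by
  have h1 : Function.Injective ((rInv H).val.toLinearMap.lTensor R) :=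
    Module.Flat.lTensor_preserves_injective_linearMap _ Subtype.val_injective
  apply h1
  apply (TensorProduct.comm k R O).injective
  apply evT_ext
  intro p
  have h2 := h (WithConv.toConv p)
  rw [evS_eq_evT, evS_eq_evT] at h2
  exact h2

/-- An element of `O ⊗ R` whose value is unchanged by `H` comes from `R ⊗ k[G]^H`. -/
lemma exists_evS (H : Set (Pt k O)) (t : O ⊗[k] R)
    (h : ∀ p : Pt k O, ∀ x ∈ H, evT R (p * x).ofConv t = evT R p.ofConv t) :
    ∃ z : R ⊗[k] rInv H, ∀ p : Pt k O, evS H p z = evT R p.ofConv t := by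
  classical
  let b := Module.Basis.ofVectorSpace k R
  let c := TensorProduct.equivFinsuppOfBasisRight (M := O) b t
  have hc : ∀ j, c j ∈ rInv H := by
    intro j p x hx
    change (p * x).ofConv (c j) = p.ofConv (c j)
    rw [← repr_evT, ← repr_evT, h p x hx]
  refine ⟨∑ j ∈ c.support, b j ⊗ₜ ⟨c j, hc j⟩, fun p => ?_⟩
  have ht : t = c.sum fun i m => m ⊗ₜ[k] b i := by
    rw [← TensorProduct.equivFinsuppOfBasisRight_symm_apply]
    exact ((TensorProduct.equivFinsuppOfBasisRight b).symm_apply_apply t).symm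
  rw [ht, Finsupp.sum, map_sum, map_sum]
  refine Finset.sum_congr rfl fun j _ => ?_
  rw [evS_tmul, evT_tmul]

/-- **Transfer principle.** -/
theorem fg_fixS_of_fg_rInv (hinv : FGInv k O) {H : Subgroup (Pt k O)}
    (hH : (rInv (H : Set (Pt k O))).FG) [Algebra.FiniteType k R]
    (ρ : Representation k (Pt k O) R) (hρ : IsMulRep ρ) (hrat : IsRat ρ) :
    (fixS ρ hρ (H : Set (Pt k O))).FG := by
  have h1 : Algebra.FiniteType k (rInv (H : Set (Pt k O))) :=
    (Subalgebra.fg_iff_finiteType _).1 hH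
  have h2 : Algebra.FiniteType k (R ⊗[k] rInv (H : Set (Pt k O))) :=
    Algebra.FiniteType.trans (S := R) inferInstance inferInstance
  have hτ : IsMulRep (ρ.tprod (lRep (H : Set (Pt k O)))) := hρ.tprod (isMulRep_lRep _)
  have h3 := hinv _ (ρ.tprod (lRep (H : Set (Pt k O)))) hτ (hrat.tprod (isRat_lRep _))
  have h4 : fixS ρ hρ (H : Set (Pt k O)) = (fixS _ hτ Set.univ).map (evS _ 1) := by
    apply le_antisymm
    · intro r hr
      obtain ⟨t, ht⟩ := hrat r
      obtain ⟨z, hz⟩ := exists_evS (H : Set (Pt k O)) t (fun p x hx => by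
        rw [← ht, ← ht, map_mul]
        exact congrArg _ (hr x hx))
      refine ⟨z, fun g _ => ?_, ?_⟩
      · apply evS_ext
        intro p
        rw [evS_tprod, hz, hz, ← ht, ← ht, ← Module.End.mul_apply, ← map_mul,
          mul_inv_cancel_left]
      · change evS (H : Set (Pt k O)) 1 z = r
        rw [hz, ← ht, map_one]
        rfl
    · rintro _ ⟨z, hz, rfl⟩ h hh
      change ρ h (evS (H : Set (Pt k O)) 1 z) = evS (H : Set (Pt k O)) 1 z
      have h5 := evS_tprod ρ (H : Set (Pt k O)) h h z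
      rw [inv_mul_cancel, hz h (Set.mem_univ _)] at h5
      rw [← h5]
      have h6 := evS_mem (R := R) (H : Set (Pt k O)) 1 h hh z
      rwa [_root_.one_mul] at h6
  rw [h4]
  exact h3.map _

/-- Conversely, `k[G]^H` is one of the `A^H`. -/
theorem fixS_rTrRep (H : Set (Pt k O)) (h : IsMulRep (rTrRep k O)) :
    fixS (rTrRep k O) h H = rInv H := by
  ext a
  rw [mem_rInv_iff_rTr]
  exact Iff.rfl

lemma isMulRep_rTrRep : IsMulRep (rTrRep k O) :=
  fun p => ⟨fun x y => map_mul (rTr p) x y, map_one (rTr p)⟩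

end pts

section sch

variable {k : Type u} [Field k] [IsAlgClosed k] {O : Type u} [CommRing O] [HopfAlgebra k O]
  [Algebra.FiniteType k O] [_root_.IsReduced O]
  {G : Over (Spec (CommRingCat.of k))} [GrpObj G] (e : G ≅ SpecOver k O) [IsMonHom e.hom]
  {R : Type u} [CommRing R] [Algebra k R]

lemma isMulRep_rep {m : VecGrp.GMod G R} (hm : m.IsMult) : IsMulRep (rep e m) :=
  (isMult_iff e m).1 hm

theorem fixedSubalgebra_eq [IsAffine G.left] [Smooth G.hom] {H : Over (Spec (CommRingCat.of k))}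
    [GrpObj H] (i : H ⟶ G) [IsMonHom i] [IsAffine H.left] [Smooth H.hom]
    (m : VecGrp.GMod G R) (hm : m.IsMult) :
    m.fixedSubalgebra hm i = fixS (rep e m) (isMulRep_rep e hm) (psub e i : Set (Pt k O)) := by
  ext x
  rw [mem_fixedSubalgebra_iff_psub e, mem_fixS]
  exact Iff.rfl

theorem fixedSubalgebra_id_eq (m : VecGrp.GMod G R) (hm : m.IsMult) :
    m.fixedSubalgebra hm (𝟙 G) = fixS (rep e m) (isMulRep_rep e hm) Set.univ := by
  ext x
  rw [mem_fixS]
  refine (mem_fixedUnder_id_iff e m x).trans ?_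
  exact ⟨fun h p _ => h p, fun h p => h p (Set.mem_univ _)⟩

end sch

end

end K496.Transfer
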