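import Groth.Agent.AGF.K496.UnipObs
import Groth.Agent.AGF.K496.Disc
import Groth.Agent.AGF.K496.FGBridge
import Groth.Agent.AGF.K501.RadSch

/-!
# The unipotent radical of a Borel subgroup, on points
-/

set_option autoImplicit false
set_option linter.unusedSectionVars false

universe u

open CategoryTheory MonoidalCategory CartesianMonoidalCategory MonObj GrpObj AlgebraicGeometry
open scoped TensorProduct

namespace K496.URDict

open Groth.Agent.Books.AffBridge Groth.Agent.Books.AffBridge2
open Groth.Agent.Sga3B.RG Groth.Agent.Sga3B.RG.BrPts K495.ObsPt K495.Bridge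
open Groth.Agent.Sga3B.Parab.BorelPts172
open Groth.Agent.Sga3B.RG.Trig Groth.Agent.Sga3B.RG.TrigTorus

variable {k : Type u} [Field k] [IsAlgClosed k] {A : Type u} [CommRing A] [HopfAlgebra k A]
  [Algebra.FiniteType k A]
  {G : Over (Spec (CommRingCat.of k))} [GrpObj G] (e : G ≅ SpecOver k A) [IsMonHom e.hom]

/-- The two versions of the subgroup of points. -/
theorem psub_eq_ptsSub [IsAffine G.left] {H : Over (Spec (CommRingCat.of k))} [GrpObj H]
    (i : H ⟶ G) [IsMonHom i] [Smooth H.hom] [IsClosedImmersion i.left] :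
    psub e i = ptsSub (i ≫ e.hom) := by
  obtain ⟨C, _, _, e', he', φ, -, -, -, hi⟩ := exists_hom_data e i
  rw [psub_eq_range e i e' φ hi, ptsSub_eq_range (i ≫ e.hom) φ e' hi.symm]

/-- **The points of the unipotent radical of a Borel subgroup** are its unipotent elements. -/
theorem mem_psub_iff [IsAffine G.left] [Smooth G.hom] {Bo : Over (Spec (CommRingCat.of k))}
    [GrpObj Bo] {iB : Bo ⟶ G} (hB : Red.IsBorelOver k iB) {U : Over (Spec (CommRingCat.of k))}
    [GrpObj U] {u : U ⟶ Bo} (hU : Par.IsUnipotentRadical u) [IsMonHom iB] [IsMonHom u] :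
    ∀ g, g ∈ psub e (u ≫ iB) ↔ g ∈ psub e iB ∧ IsUnip g := by
  have hBcl := hB.2.1
  have hBsm := hB.2.2.1
  have hBconn := hB.2.2.2.1
  have hUcl := hU.2.1
  have hUsm := hU.2.2.2.1
  have hredA : _root_.IsReduced A :=
    (smooth_iff (K := k) A).1 (Groth.Agent.Agf.H614.AlgDict.smooth_of_iso e)
  obtain ⟨C, _, _, e', he', φ, hft, hred, hφ, hi⟩ := exists_hom_data e iB
  have haff : IsAffine Bo.left := isAffine_of_isAffineHom iB.left
  have hUR := K501.RadSch.isUR_ptsSub e' hU
  rw [← psub_eq_ptsSub e' u] at hUR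
  have hBpt : IsBorelPt (psub e iB) := by
    rw [psub_eq_ptsSub]
    exact Groth.Agent.Agf.H614.AlgDict.isBorelPt e hB
  have hrange : psub e iB = (Pt.map φ).range := psub_eq_range e iB e' φ hi
  have hdom : IsDomain C := by
    have h1 : Smooth (SpecOver k C).hom := Groth.Agent.Agf.H614.AlgDict.smooth_of_iso e'
    refine (isDomain_iff (K := k) C).1 ⟨h1, ?_⟩
    have h2 : IsIso e'.hom.left := (Over.forget _).map_isIso e'.hom
    exact (Scheme.homeoOfIso (asIso e'.hom.left)).surjective.connectedSpace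
      (Scheme.homeoOfIso (asIso e'.hom.left)).continuous
  have hsol : Group.IsSolvable (Pt k C) := by
    have h1 := hBpt.isSolvable
    rw [hrange] at h1
    exact Group.isSolvable_of_isSolvable_injective (f := (Pt.map φ).rangeRestrict)
      fun x y hxy => Pt.map_injective hφ (congrArg Subtype.val hxy)
  have htrig : IsTrig k C :=
    Trig.isTrig_of_simple fun V _ _ _ ρ hρ hs => SolvLine.finrank_eq_one hsol hρ hs
  have hGu : psub e' u = Gu k C := by
    apply le_antisymm
    · intro g hg
      exact (isUnip_iff htrig g).1 (hUR.isUnip g hg)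
    · exact hUR.max _ ⟨normal_Gu, isCl_Gu, isConn_Gu htrig, fun g hg => (isUnip_iff htrig g).2 hg⟩
  intro g
  rw [psub_comp_eq_map e iB e' φ hi u, hGu, hrange, Subgroup.mem_map, MonoidHom.mem_range]
  constructor
  · rintro ⟨x, hx, rfl⟩
    exact ⟨⟨x, rfl⟩, (isUnip_map_iff hφ).2 ((isUnip_iff htrig x).2 hx)⟩
  · rintro ⟨⟨x, rfl⟩, hx⟩
    exact ⟨x, (isUnip_iff htrig x).1 ((isUnip_map_iff hφ).1 hx), rfl⟩

end K496.URDict
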